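import Groth.Agent.RegImm44.BaseChange
import Groth.Agent.KReg44.Pi
import Mathlib.AlgebraicGeometry.Morphisms.Immersion
import Mathlib.RingTheory.Flat.FaithfullyFlat.Algebra

/-!
# Regular immersions and the kernel ideals on affine charts
-/

universe u

open AlgebraicGeometry CategoryTheory Limits MorphismProperty

namespace Groth.Agent.RegImm44

variable {X Y : Scheme.{u}} (i : Y ⟶ X)

theorem ker_app_restrict {U U' : X.Opens} (hU : IsAffineOpen U) [IsClosedImmersion (i ∣_ U)]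
    (hU' : IsAffineOpen U') (hle : U' ≤ U) :
    RingHom.ker (i.app U').hom = (RingHom.ker (i.app U).hom).map (X.presheaf.map (homOfLE hle).op).hom := by
  have hsq : IsPullback (𝟙 Y) i i (𝟙 X) := IsPullback.of_horiz_isIso ⟨by simp⟩
  have h := ker_app_baseChange hsq hU hU' (show U' ≤ (𝟙 X : X ⟶ X) ⁻¹ᵁ U from hle)
  rw [h]
  congr 2

theorem isClosedImmersion_restrict_of_le {U U' : X.Opens} [IsClosedImmersion (i ∣_ U)] (hle : U' ≤ U) :
    IsClosedImmersion (i ∣_ U') :=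
  isClosedImmersion_restrict (IsPullback.of_horiz_isIso ⟨by simp⟩ : IsPullback (𝟙 Y) i i (𝟙 X))
    (show U' ≤ (𝟙 X : X ⟶ X) ⁻¹ᵁ U from hle)

theorem mem_basicOpen_iff {U : X.Opens} (hU : IsAffineOpen U) (x : U) (f : Γ(X, U)) :
    (x : X) ∈ X.basicOpen f ↔ f ∉ (hU.primeIdealOf x).asIdeal := by
  conv_lhs => rw [← hU.fromSpec_primeIdealOf x]
  change hU.primeIdealOf x ∈ hU.fromSpec ⁻¹ᵁ X.basicOpen f ↔ _
  rw [hU.fromSpec_preimage_basicOpen]
  rfl

theorem ker_le_primeIdealOf {U : X.Opens} (hU : IsAffineOpen U) (z : Y) (hz : i z ∈ U) :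
    RingHom.ker (i.app U).hom ≤ (hU.primeIdealOf ⟨i z, hz⟩).asIdeal := by
  intro f hf
  by_contra hc
  have h1 : z ∈ i ⁻¹ᵁ X.basicOpen f := (mem_basicOpen_iff hU ⟨i z, hz⟩ f).2 hc
  rw [Scheme.preimage_basicOpen, show (i.app U) f = 0 from hf] at h1
  simp at h1

theorem exists_preimage_of_ker_le {U : X.Opens} (hU : IsAffineOpen U) [IsClosedImmersion (i ∣_ U)]
    (P : PrimeSpectrum Γ(X, U)) (hP : RingHom.ker (i.app U).hom ≤ P.asIdeal) :
    ∃ z, i z = hU.fromSpec P := by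
  by_contra hne
  push Not at hne
  have hxU : hU.fromSpec P ∈ U := by
    rw [← SetLike.mem_coe, ← hU.range_fromSpec]; exact ⟨P, rfl⟩
  let O : X.Opens := U.ι ''ᵁ ⟨(Set.range (i ∣_ U))ᶜ, (i ∣_ U).isClosedEmbedding.isClosed_range.isOpen_compl⟩
  have hxO : hU.fromSpec P ∈ O := by
    refine ⟨⟨_, hxU⟩, ?_, rfl⟩
    rintro ⟨z, hz⟩
    apply hne z.1
    rw [← morphismRestrict_base_coe i U z, hz]
  obtain ⟨f, hfO, hxf⟩ := hU.exists_basicOpen_le (V := O) ⟨_, hxO⟩ hxU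
  have hbot : Y.basicOpen ((i.app U).hom f) = ⊥ := by
    rw [← Scheme.preimage_basicOpen, eq_bot_iff]
    intro z hz
    obtain ⟨w, hw, hwz⟩ := hfO hz
    have hzU : i z ∈ U := X.basicOpen_le f hz
    exfalso
    apply hw
    refine ⟨⟨z, hzU⟩, Subtype.ext ?_⟩
    rw [morphismRestrict_base_coe]
    exact hwz.symm
  obtain ⟨n, hn⟩ := (Scheme.isNilpotent_iff_basicOpen_eq_bot_of_isCompact
    (isAffineOpen_preimage i hU).isCompact _).2 hbot
  have hfn : f ^ n ∈ RingHom.ker (i.app U).hom := by rw [RingHom.mem_ker, map_pow, hn]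
  have hfP : f ∈ P.asIdeal := P.isPrime.mem_of_pow_mem n (hP hfn)
  have h1 : P ∈ hU.fromSpec ⁻¹ᵁ X.basicOpen f := hxf
  rw [hU.fromSpec_preimage_basicOpen] at h1
  exact h1 hfP

theorem isKoszulRegularIdeal_ker (h : ∀ z, RegImm.IsRegularImmersionAt .koszul i z) {U : X.Opens}
    (hU : IsAffineOpen U) [IsClosedImmersion (i ∣_ U)] :
    LCI.IsKoszulRegularIdeal (RingHom.ker (i.app U).hom) := by
  intro P hP
  obtain ⟨z, hz⟩ := exists_preimage_of_ker_le i hU P hP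
  obtain ⟨⟨V, hV⟩, hzV, hci, rs, hrs, hker⟩ := h z
  haveI := hci
  have hzU : i z ∈ U := by
    rw [hz, ← SetLike.mem_coe, ← hU.range_fromSpec]; exact ⟨P, rfl⟩
  obtain ⟨f, g, hfg, hxf⟩ := exists_basicOpen_le_affine_inter hU hV (i z) ⟨hzU, hzV⟩
  refine ⟨f, ?_, ?_⟩
  · rw [hz] at hxf
    have h1 : P ∈ hU.fromSpec ⁻¹ᵁ X.basicOpen f := hxf
    rw [hU.fromSpec_preimage_basicOpen] at h1
    exact h1
  have hDV : X.basicOpen f ≤ V := hfg ▸ X.basicOpen_le g
  let ρ := (X.presheaf.map (homOfLE hDV).op).hom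
  have hρ : ρ.Flat := by
    have := (𝟙 X : X ⟶ X).flat_appLE hV (hU.basicOpen f) (show X.basicOpen f ≤ (𝟙 X : X ⟶ X) ⁻¹ᵁ V from hDV)
    rwa [show (𝟙 X : X ⟶ X).appLE V (X.basicOpen f) hDV = X.presheaf.map (homOfLE hDV).op from by simp [Scheme.Hom.appLE]; exact Category.id_comp _] at this
  haveI := hU.isLocalization_basicOpen f
  let e : Γ(X, X.basicOpen f) ≃ₐ[Γ(X, U)] Localization.Away f :=
    IsLocalization.algEquiv (Submonoid.powers f) _ _
  have hI : (RingHom.ker (i.app (X.basicOpen f)).hom) = Ideal.ofList (rs.map ρ) := by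
    rw [ker_app_restrict i hV (hU.basicOpen f) hDV, hker, Ideal.map_ofList]
  obtain ⟨l, hl, hlI⟩ := KReg44.exists_map e.toRingEquiv.toRingHom
    (RingHom.Flat.of_bijective e.bijective) ⟨rs.map ρ, KReg44.isKoszulRegularSeq_map ρ hρ hrs, hI.symm⟩
  refine ⟨l, hl, (hlI.trans ?_).symm⟩
  rw [ker_app_restrict i hU (hU.basicOpen f) (X.basicOpen_le f), Ideal.map_map]
  congr 1
  ext x
  exact e.commutes x

theorem isRegularImmersionAt_of_isKoszulRegularIdeal {U : X.Opens}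
    (hU : IsAffineOpen U) [IsClosedImmersion (i ∣_ U)]
    (h : LCI.IsKoszulRegularIdeal (RingHom.ker (i.app U).hom)) (z : Y) (hz : i z ∈ U) :
    RegImm.IsRegularImmersionAt .koszul i z := by
  obtain ⟨f, hf, l, hl, hspan⟩ := h _ (ker_le_primeIdealOf i hU z hz)
  haveI := hU.isLocalization_basicOpen f
  let e : Localization.Away f ≃ₐ[Γ(X, U)] Γ(X, X.basicOpen f) :=
    IsLocalization.algEquiv (Submonoid.powers f) _ _
  obtain ⟨l', hl', hl'I⟩ := KReg44.exists_map e.toRingEquiv.toRingHom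
    (RingHom.Flat.of_bijective e.bijective) ⟨l, hl, hspan.symm⟩
  refine ⟨⟨X.basicOpen f, hU.basicOpen f⟩, (mem_basicOpen_iff hU ⟨i z, hz⟩ f).2 hf,
    isClosedImmersion_restrict_of_le i (X.basicOpen_le f), l', hl', ?_⟩
  rw [hl'I, ker_app_restrict i hU (hU.basicOpen f) (X.basicOpen_le f), Ideal.map_map]
  congr 1
  ext x
  exact (e.commutes x).symm

theorem exists_chart [IsImmersion i] (z : Y) :
    ∃ U : X.Opens, IsAffineOpen U ∧ i z ∈ U ∧ IsClosedImmersion (i ∣_ U) := by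
  obtain ⟨U, hU, hz, hle⟩ := exists_isAffineOpen_mem_and_subset
    (show i z ∈ i.coborderRange from subset_coborder ⟨z, rfl⟩)
  refine ⟨U, hU, hz, IsClosedImmersion.of_isPreimmersion _ ?_⟩
  have e : Set.range (i ∣_ U) = Subtype.val ⁻¹' Set.range i := by
    ext x
    constructor
    · rintro ⟨y, rfl⟩; exact ⟨y.1, (morphismRestrict_base_coe i U y).symm⟩
    · rintro ⟨y, hy⟩
      have hyU : i y ∈ U := hy ▸ x.2
      exact ⟨⟨y, hyU⟩, Subtype.ext ((morphismRestrict_base_coe i U _).trans hy)⟩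
  rw [e]
  exact (isClosed_preimage_val_coborder (s := Set.range i)).preimage
    (continuous_inclusion (show (U : Set X) ⊆ coborder (Set.range i) from hle))

theorem isRegularImmersion_of_baseChange {X' Y' : Scheme.{u}} {g : X' ⟶ X} {i' : Y' ⟶ X'} {g' : Y' ⟶ Y}
    [IsImmersion i] [Flat g] [Surjective g] [QuasiCompact g] (hsq : IsPullback g' i' i g)
    (hi' : RegImm.IsRegularImmersion .koszul i') : RegImm.IsRegularImmersion .koszul i := by
  refine ⟨inferInstance, fun z => ?_⟩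
  obtain ⟨U, hU, hz, hci⟩ := exists_chart i z
  refine isRegularImmersionAt_of_isKoszulRegularIdeal i hU ?_ z hz
  obtain ⟨s, hs, he⟩ := isCompact_and_isOpen_iff_finite_and_eq_biUnion_affineOpens.mp
    ⟨g.isCompact_preimage hU.isCompact, (g ⁻¹ᵁ U).isOpen⟩
  haveI := hs.to_subtype
  have hle : ∀ W : s, (W.1 : X'.Opens) ≤ g ⁻¹ᵁ U := fun W x hx => by
    rw [← SetLike.mem_coe, he]; exact Set.mem_iUnion₂.2 ⟨W.1, W.2, hx⟩
  let B : s → Type u := fun W => Γ(X', W.1.1)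
  letI : ∀ W, Algebra Γ(X, U) (B W) := fun W => (g.appLE U W.1.1 (hle W)).hom.toAlgebra
  haveI : ∀ W, Module.Flat Γ(X, U) (B W) := fun W => g.flat_appLE hU W.1.2 (hle W)
  haveI : Module.Flat Γ(X, U) (Π W, B W) := by
    classical
    haveI := Fintype.ofFinite s
    exact Module.Flat.of_linearEquiv DFinsupp.linearEquivFunOnFintype.symm
  haveI : Module.FaithfullyFlat Γ(X, U) (Π W, B W) := by
    refine Module.FaithfullyFlat.of_comap_surjective fun P => ?_
    obtain ⟨x', hx'⟩ := g.surjective (hU.fromSpec P)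
    have hxU : hU.fromSpec P ∈ U := by
      rw [← SetLike.mem_coe, ← hU.range_fromSpec]; exact ⟨P, rfl⟩
    have hx'U : x' ∈ g ⁻¹ᵁ U := by
      change g x' ∈ U; rw [hx']; exact hxU
    rw [← SetLike.mem_coe, he] at hx'U
    obtain ⟨W, hW, hxW⟩ := Set.mem_iUnion₂.1 hx'U
    let q := W.2.primeIdealOf ⟨x', hxW⟩
    refine ⟨PrimeSpectrum.comap (Pi.evalRingHom B ⟨W, hW⟩) q, ?_⟩
    rw [← PrimeSpectrum.comap_comp_apply]
    change PrimeSpectrum.comap (g.appLE U W.1 (hle ⟨W, hW⟩)).hom q = P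
    have h1 := IsAffineOpen.comap_primeIdealOf_appLE U hU W.1 W.2 (hle ⟨W, hW⟩) hxW
    refine (h1.trans ?_)
    apply hU.fromSpec.isOpenEmbedding.injective
    exact (hU.fromSpec_primeIdealOf ⟨g x', hle ⟨W, hW⟩ hxW⟩).trans hx'
  refine KReg44.isKoszulRegularIdeal_of_map (B := Π W, B W) (KReg44.isKoszulRegularIdeal_pi _ fun W => ?_)
  rw [Ideal.map_map, show (Pi.evalRingHom B W).comp (algebraMap Γ(X, U) (Π W, B W)) =
    (g.appLE U W.1.1 (hle W)).hom from rfl]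
  haveI := hci
  rw [← ker_app_baseChange hsq hU W.1.2 (hle W)]
  haveI := isClosedImmersion_restrict hsq (hle W)
  exact isKoszulRegularIdeal_ker i' hi'.2 W.1.2

end Groth.Agent.RegImm44
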