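import Groth.Agent.RegImm44.Affine
import Groth.Agent.KReg44.Append

/-!
# Composition of Koszul-regular immersions
-/

universe u

open AlgebraicGeometry CategoryTheory Limits MorphismProperty

namespace Groth.Agent.RegImm44

variable {X Y : Scheme.{u}} (i : Y ⟶ X)

theorem flat_restrictionMap {U U' : X.Opens} (hU : IsAffineOpen U) (hU' : IsAffineOpen U') (hle : U' ≤ U) :
    (X.presheaf.map (homOfLE hle).op).hom.Flat := by
  have := (𝟙 X : X ⟶ X).flat_appLE hU hU' (show U' ≤ (𝟙 X : X ⟶ X) ⁻¹ᵁ U from hle)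
  rwa [show (𝟙 X : X ⟶ X).appLE U U' hle = X.presheaf.map (homOfLE hle).op from by
    simp [Scheme.Hom.appLE]; exact Category.id_comp _] at this

/-- The kernel on a smaller affine, with the sequence generating it. -/
theorem ker_app_ofList_restrict {U U' : X.Opens} (hU : IsAffineOpen U) (hU' : IsAffineOpen U') (hle : U' ≤ U)
    [IsClosedImmersion (i ∣_ U)] {rs : List Γ(X, U)} (hrs : LCI.IsKoszulRegularSeq Γ(X, U) rs)
    (hker : RingHom.ker (i.app U).hom = Ideal.ofList rs) :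
    ∃ rs' : List Γ(X, U'), rs'.length = rs.length ∧ LCI.IsKoszulRegularSeq Γ(X, U') rs' ∧
      RingHom.ker (i.app U').hom = Ideal.ofList rs' :=
  ⟨rs.map (X.presheaf.map (homOfLE hle).op).hom, List.length_map _,
    KReg44.isKoszulRegularSeq_map _ (flat_restrictionMap hU hU' hle) hrs,
    by rw [ker_app_restrict i hU hU' hle, hker, Ideal.map_ofList]⟩

theorem exists_chart_comp {Z : Scheme.{u}} (j : Z ⟶ Y) (z : Z)
    {U : X.Opens} (hU : IsAffineOpen U) (hzU : i (j z) ∈ U) [IsClosedImmersion (i ∣_ U)]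
    {f : List Γ(X, U)} (hf : LCI.IsKoszulRegularSeq Γ(X, U) f) (hfker : RingHom.ker (i.app U).hom = Ideal.ofList f)
    {V : Y.Opens} (hV : IsAffineOpen V) (hzV : j z ∈ V) [IsClosedImmersion (j ∣_ V)]
    {g : List Γ(Y, V)} (hg : LCI.IsKoszulRegularSeq Γ(Y, V) g) (hgker : RingHom.ker (j.app V).hom = Ideal.ofList g) :
    ∃ W : X.affineOpens, (j ≫ i) z ∈ W.1 ∧ IsClosedImmersion ((j ≫ i) ∣_ W.1) ∧
      ∃ rs : List Γ(X, W.1), rs.length = g.length + f.length ∧ LCI.IsKoszulRegularSeq Γ(X, W.1) rs ∧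
        RingHom.ker ((j ≫ i).app W.1).hom = Ideal.ofList rs := by
  obtain ⟨h, h', hh, hzh⟩ := exists_basicOpen_le_affine_inter (isAffineOpen_preimage i hU) hV (j z) ⟨hzU, hzV⟩
  obtain ⟨s, rfl⟩ := app_surjective i hU h
  have hWU : X.basicOpen s ≤ U := X.basicOpen_le s
  have hpre : i ⁻¹ᵁ X.basicOpen s = Y.basicOpen ((i.app U).hom s) := Scheme.preimage_basicOpen i s
  have hWV : i ⁻¹ᵁ X.basicOpen s ≤ V := by
    rw [hpre, hh]; exact Y.basicOpen_le h'
  have hW : IsAffineOpen (X.basicOpen s) := hU.basicOpen s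
  haveI := isClosedImmersion_restrict_of_le i hWU
  haveI := isClosedImmersion_restrict_of_le j hWV
  have hpaff : IsAffineOpen (i ⁻¹ᵁ X.basicOpen s) := isAffineOpen_preimage i hW
  obtain ⟨f', hf'l, hf', hf'ker⟩ := ker_app_ofList_restrict i hU hW hWU hf hfker
  obtain ⟨g', hg'l, hg', hg'ker⟩ := ker_app_ofList_restrict j hV hpaff hWV hg hgker
  have hsurj := app_surjective i hW
  obtain ⟨g'', hg''⟩ := List.map_surjective_iff.2 hsurj g'
  refine ⟨⟨X.basicOpen s, hW⟩, ?_, ?_, g'' ++ f', ?_, ?_, ?_⟩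
  · have : j z ∈ i ⁻¹ᵁ X.basicOpen s := by rw [hpre]; exact hzh
    exact this
  · change IsClosedImmersion ((j ≫ i) ∣_ X.basicOpen s)
    rw [morphismRestrict_comp]
    exact IsClosedImmersion.comp (j ∣_ i ⁻¹ᵁ X.basicOpen s) (i ∣_ X.basicOpen s)
  · rw [List.length_append, hf'l, ← hg'l, ← hg'', List.length_map]
  · exact KReg44.isKoszulRegularSeq_append _ hf' hsurj hf'ker (by rw [hg'']; exact hg')
  · change RingHom.ker ((j ≫ i).app (X.basicOpen s)).hom = _
    rw [Scheme.Hom.comp_app]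
    change RingHom.ker ((j.app (i ⁻¹ᵁ X.basicOpen s)).hom.comp (i.app (X.basicOpen s)).hom) = _
    rw [ ← RingHom.comap_ker, hg'ker, ← hg'',
      ← Ideal.map_ofList, Ideal.comap_map_of_surjective _ hsurj, Ideal.ofList_append]
    congr 1

end Groth.Agent.RegImm44
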