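import Groth.Agent.RegImm44.Local
import Groth.Agent.RegImm44.Comp
import Mathlib.AlgebraicGeometry.Morphisms.LocalFlatDescent

/-!
# Koszul morphisms: local factorisations, descent, composition
-/

universe u

open AlgebraicGeometry CategoryTheory Limits MorphismProperty TopologicalSpace

namespace Groth.Agent.RegImm44

variable {X Y Z : Scheme.{u}}

/-- Locally of finite type: a closed immersion into an affine space over a given affine chart. -/
theorem exists_presentation (f : X ⟶ Y) [LocallyOfFiniteType f] (x : X) {V : Y.Opens} (hV : IsAffineOpen V)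
    (hxV : f x ∈ V) :
    ∃ (U : X.Opens) (n : ℕ) (i : (U : Scheme.{u}) ⟶ Spec (.of (MvPolynomial (Fin n) Γ(Y, V)))),
      x ∈ U ∧ IsImmersion i ∧
        i ≫ Spec.map (CommRingCat.ofHom MvPolynomial.C) ≫ hV.fromSpec = U.ι ≫ f := by
  obtain ⟨U, hU, hxU, e⟩ := exists_isAffineOpen_mem_and_subset (show x ∈ f ⁻¹ᵁ V from hxV)
  let φ := f.appLE V U e
  have hφ : φ.hom.FiniteType := f.finiteType_appLE hV hU e
  letI := φ.hom.toAlgebra
  obtain ⟨n, α, hα⟩ := Algebra.FiniteType.iff_quotient_mvPolynomial''.1 hφ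
  let c := CommRingCat.ofHom (MvPolynomial.C : Γ(Y, V) →+* MvPolynomial (Fin n) Γ(Y, V))
  let a := CommRingCat.ofHom (α.toRingHom : MvPolynomial (Fin n) Γ(Y, V) →+* Γ(X, U))
  have hca : c ≫ a = φ := by
    ext r; exact α.commutes r
  haveI : IsClosedImmersion (Spec.map a) := IsClosedImmersion.spec_of_surjective a hα
  haveI : IsAffine U.toScheme := hU
  refine ⟨U, n, hU.isoSpec.hom ≫ Spec.map a, hxU, inferInstance, ?_⟩
  rw [Category.assoc, ← Spec.map_comp_assoc, hca, IsAffineOpen.SpecMap_appLE_fromSpec f hV hU e,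
    IsAffineOpen.fromSpec, Category.assoc, Iso.hom_inv_id_assoc]

theorem smooth_specMap_C (R : Type u) [CommRing R] (n : ℕ) :
    Smooth (Spec.map (CommRingCat.ofHom (MvPolynomial.C : R →+* MvPolynomial (Fin n) R))) := by
  rw [HasRingHomProperty.Spec_iff (P := @Smooth)]
  exact (RingHom.smooth_algebraMap (R := R) (S := MvPolynomial (Fin n) R)).2 ⟨inferInstance, inferInstance⟩

/-- Locally of finite type: locally a closed immersion into something smooth over the base. -/
theorem exists_factorisation (f : X ⟶ Y) [LocallyOfFiniteType f] (x : X) :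
    ∃ (U : X.Opens) (P : Scheme.{u}) (i : (U : Scheme.{u}) ⟶ P) (π : P ⟶ Y),
      x ∈ U ∧ IsImmersion i ∧ Smooth π ∧ i ≫ π = U.ι ≫ f := by
  obtain ⟨V, hV, hxV, -⟩ := exists_isAffineOpen_mem_and_subset (show f x ∈ (⊤ : Y.Opens) from trivial)
  obtain ⟨U, n, i, hxU, hi, hfac⟩ := exists_presentation f x hV hxV
  haveI := smooth_specMap_C Γ(Y, V) n
  exact ⟨U, _, i, _, hxU, hi, inferInstance, hfac⟩

theorem locallyOfFiniteType_of_isKoszulAt {f : X ⟶ Y} (hf : ∀ x, Synt.IsKoszulAt f x) :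
    LocallyOfFiniteType f := by
  choose U P i π hxU hl _ _ _ using hf
  rw [IsZariskiLocalAtSource.iff_of_iSup_eq_top (P := @LocallyOfFiniteType) U
    (top_le_iff.1 fun x _ => Opens.mem_iSup.2 ⟨x, hxU x⟩)]
  exact hl

theorem isRegularImmersion_specMap {R S : CommRingCat.{u}} (a : R ⟶ S) (ha : Function.Surjective a.hom)
    (h : LCI.IsKoszulRegularIdeal (RingHom.ker a.hom)) :
    RegImm.IsRegularImmersion .koszul (Spec.map a) := by
  haveI : IsClosedImmersion (Spec.map a) := IsClosedImmersion.spec_of_surjective a ha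
  refine ⟨inferInstance, fun z => ?_⟩
  haveI : IsClosedImmersion (Spec.map a ∣_ ⊤) := inferInstance
  refine isRegularImmersionAt_of_isKoszulRegularIdeal (Spec.map a) (isAffineOpen_top _) ?_ z trivial
  have hnat : (Spec.map a).appTop ≫ (Scheme.ΓSpecIso S).hom = (Scheme.ΓSpecIso R).hom ≫ a :=
    Scheme.ΓSpecIso_naturality a
  refine KReg44.isKoszulRegularIdeal_of_equiv (Scheme.ΓSpecIso R).commRingCatIsoToRingEquiv ?_
  have hker : RingHom.ker ((Spec.map a).app ⊤).hom =
      (RingHom.ker a.hom).comap (Scheme.ΓSpecIso R).commRingCatIsoToRingEquiv.toRingHom := by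
    ext x
    rw [RingHom.mem_ker, Ideal.mem_comap, RingHom.mem_ker]
    constructor
    · intro hx
      have h1 := ConcreteCategory.congr_hom hnat x
      change (Scheme.ΓSpecIso S).hom.hom (((Spec.map a).app ⊤).hom x) = a.hom ((Scheme.ΓSpecIso R).hom.hom x) at h1
      exact h1.symm.trans ((congrArg _ hx).trans (map_zero (Scheme.ΓSpecIso S).hom.hom))
    · intro hx
      apply (ConcreteCategory.bijective_of_isIso (Scheme.ΓSpecIso S).hom).1
      have h1 := ConcreteCategory.congr_hom hnat x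
      change (Scheme.ΓSpecIso S).hom.hom (((Spec.map a).app ⊤).hom x) = a.hom ((Scheme.ΓSpecIso R).hom.hom x) at h1
      change (Scheme.ΓSpecIso S).hom.hom (((Spec.map a).app ⊤).hom x) = (Scheme.ΓSpecIso S).hom.hom 0
      exact h1.trans (hx.trans (map_zero (Scheme.ΓSpecIso S).hom.hom).symm)
  rw [hker]
  exact (Ideal.map_comap_of_surjective (Scheme.ΓSpecIso R).commRingCatIsoToRingEquiv.toRingHom
    (Scheme.ΓSpecIso R).commRingCatIsoToRingEquiv.surjective _).symm ▸ h

/-- Composition of Koszul morphisms. -/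
theorem isKoszulAt_comp (f : X ⟶ Y) (g : Y ⟶ Z) (hf : ∀ x, Synt.IsKoszulAt f x)
    (hg : ∀ y, Synt.IsKoszulAt g y) (x : X) : Synt.IsKoszulAt (f ≫ g) x := by
  haveI := locallyOfFiniteType_of_isKoszulAt hf
  obtain ⟨U', Q, j, ρ, hxU', -, hj, hρ, hjfac⟩ := hg (f x)
  haveI := hj.1
  haveI := hρ
  obtain ⟨D, hD, hxD, hciD⟩ := exists_chart j ⟨f x, hxU'⟩
  haveI := hciD
  have hW : IsAffineOpen (j ⁻¹ᵁ D) := isAffineOpen_preimage j hD
  obtain ⟨U, n, i, hxU, hi, hifac⟩ := exists_presentation (f ∣_ U') ⟨x, hxU'⟩ hW (show (f ∣_ U') ⟨x, hxU'⟩ ∈ j ⁻¹ᵁ D from (show (f ∣_ U') ⟨x, hxU'⟩ = ⟨f x, hxU'⟩ from Subtype.ext (morphismRestrict_base_coe f U' _)) ▸ hxD)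
  haveI := hi
  let cB := CommRingCat.ofHom (MvPolynomial.C : Γ(U'.toScheme, j ⁻¹ᵁ D) →+* MvPolynomial (Fin n) Γ(U'.toScheme, j ⁻¹ᵁ D))
  let cA := CommRingCat.ofHom (MvPolynomial.C : Γ(Q, D) →+* MvPolynomial (Fin n) Γ(Q, D))
  haveI : Smooth (Spec.map cA) := smooth_specMap_C _ n
  haveI : Smooth (Spec.map cB) := smooth_specMap_C _ n
  haveI := hD.isOpenImmersion_fromSpec
  haveI := hW.isOpenImmersion_fromSpec
  let φ := j.app D
  let a := CommRingCat.ofHom (MvPolynomial.map φ.hom : MvPolynomial (Fin n) Γ(Q, D) →+* _)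
  have hφ : Function.Surjective φ.hom := app_surjective j hD
  have ha : Function.Surjective a.hom := MvPolynomial.map_surjective φ.hom hφ
  have hC : (MvPolynomial.C : Γ(Q, D) →+* MvPolynomial (Fin n) Γ(Q, D)).Flat :=
    RingHom.flat_algebraMap_iff.2 (inferInstance : Module.Flat Γ(Q, D) (MvPolynomial (Fin n) Γ(Q, D)))
  have hk : RegImm.IsRegularImmersion .koszul (Spec.map a) := by
    refine isRegularImmersion_specMap a ha ?_
    rw [show RingHom.ker a.hom = (RingHom.ker φ.hom).map MvPolynomial.C from MvPolynomial.ker_map φ.hom]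
    exact KReg44.isKoszulRegularIdeal_map _ hC (isKoszulRegularIdeal_ker j hj.2 hD)
  let o := U.ι ≫ (f ⁻¹ᵁ U').ι
  have hofac : i ≫ (Spec.map cB ≫ hW.fromSpec ≫ U'.ι) = o ≫ f := by
    rw [Category.assoc, ← morphismRestrict_ι f U', ← Category.assoc U.ι, ← hifac]
    simp only [Category.assoc]
    rfl
  have hireg : RegImm.IsRegularImmersion .koszul i :=
    isRegularImmersion_of_isKoszulAt (fun u => isKoszulAt_open_comp o u (hf _))
      (Spec.map cB ≫ hW.fromSpec ≫ U'.ι) i hofac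
  have hcomm : Spec.map a ≫ Spec.map cA ≫ hD.fromSpec = Spec.map cB ≫ hW.fromSpec ≫ j := by
    rw [← IsAffineOpen.SpecMap_appLE_fromSpec j hD hW le_rfl, ← Scheme.Hom.app_eq_appLE,
      ← Spec.map_comp_assoc, ← Spec.map_comp_assoc]
    congr 2
    exact CommRingCat.hom_ext (RingHom.ext fun r => MvPolynomial.map_C φ.hom r)
  have hu : o ⟨⟨x, hxU'⟩, hxU⟩ = x := rfl
  let e := o.isoOpensRange
  haveI := hk.1
  have hreg := isRegularImmersion_open_comp (i ≫ Spec.map a) e.inv ?_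
  · refine ⟨o.opensRange, Spec (.of (MvPolynomial (Fin n) Γ(Q, D))), e.inv ≫ i ≫ Spec.map a,
      Spec.map cA ≫ hD.fromSpec ≫ ρ, ⟨_, hu⟩, ?_, hreg, inferInstance, ?_⟩
    · haveI := locallyOfFiniteType_of_isKoszulAt hg
      infer_instance
    · simp only [Category.assoc]
      rw [reassoc_of% hcomm, hjfac, ← o.isoOpensRange_inv_comp_assoc]
      congr 1
      rw [← Category.assoc o f g, ← hofac]
      simp only [Category.assoc]
  · haveI := hireg.1
    refine ⟨inferInstance, fun z => ?_⟩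
    obtain ⟨⟨D₁, hD₁⟩, hz₁, hci₁, f₁, hf₁, hker₁⟩ := hk.2 (i z)
    obtain ⟨⟨V₁, hV₁⟩, hz₂, hci₂, g₁, hg₁, hker₂⟩ := hireg.2 z
    haveI := hci₁
    haveI := hci₂
    obtain ⟨W, hzW, hcW, rs, -, hrs, hker⟩ :=
      exists_chart_comp (Spec.map a) i z hD₁ hz₁ hf₁ hker₁ hV₁ hz₂ hg₁ hker₂
    exact ⟨W, hzW, hcW, rs, hrs, hker⟩

/-- Koszul morphisms descend along flat surjective quasi-compact base change. -/
theorem isKoszulAt_of_baseChange {X' Y' : Scheme.{u}} (f : X ⟶ Y) (g : Y' ⟶ Y) [Flat g] [Surjective g]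
    [QuasiCompact g] (f' : X' ⟶ Y') (g' : X' ⟶ X) (hsq : IsPullback g' f' f g)
    (hf' : ∀ x' : X', Synt.IsKoszulAt f' x') (x : X) : Synt.IsKoszulAt f x := by
  haveI hlft' : LocallyOfFiniteType f' := locallyOfFiniteType_of_isKoszulAt hf'
  haveI : LocallyOfFiniteType f :=
    MorphismProperty.of_isPullback_of_descendsAlong (Q := @Surjective ⊓ @Flat ⊓ @QuasiCompact)
      hsq.flip ⟨⟨inferInstance, inferInstance⟩, inferInstance⟩ hlft'
  obtain ⟨U, P, i, π, hxU, hi, hπ, hfac⟩ := exists_factorisation f x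
  haveI := hi
  haveI := hπ
  have top := (isPullback_morphismRestrict g' U).paste_vert hsq
  rw [← hfac] at top
  let i' : ((g' ⁻¹ᵁ U) : Scheme.{u}) ⟶ pullback π g :=
    pullback.lift ((g' ∣_ U) ≫ i) ((g' ⁻¹ᵁ U).ι ≫ f') ((Category.assoc _ _ _).trans top.w)
  have hi2 : i' ≫ pullback.snd π g = (g' ⁻¹ᵁ U).ι ≫ f' := pullback.lift_snd _ _ _
  have hi1 : i' ≫ pullback.fst π g = (g' ∣_ U) ≫ i := pullback.lift_fst _ _ _
  rw [← hi2] at top
  have sq : IsPullback (g' ∣_ U) i' i (pullback.fst π g) :=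
    IsPullback.of_bot top hi1.symm (IsPullback.of_hasPullback π g)
  haveI : IsImmersion i' := MorphismProperty.of_isPullback sq inferInstance
  have hreg : RegImm.IsRegularImmersion .koszul i' :=
    isRegularImmersion_of_isKoszulAt (fun u => isKoszulAt_open_comp (g' ⁻¹ᵁ U).ι u (hf' _))
      (pullback.snd π g) i' hi2
  haveI : Surjective (pullback.fst π g) := inferInstance
  refine ⟨U, P, i, π, hxU, ?_, isRegularImmersion_of_baseChange i sq hreg, hπ, hfac⟩
  infer_instance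

end Groth.Agent.RegImm44
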