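import Groth.Agent.KReg44.Ideal
import Groth.Prelude.Def_RegImm
import Mathlib.AlgebraicGeometry.Morphisms.Flat
import Mathlib.AlgebraicGeometry.Morphisms.ClosedImmersion

/-!
# Charts of base changes of immersions
-/

universe u

open AlgebraicGeometry CategoryTheory Limits MorphismProperty

namespace Groth.Agent.RegImm44

theorem ker_inl_of_isPushout {A B C D : CommRingCat.{u}} {φ : A ⟶ B} {ψ : A ⟶ C} {inl : B ⟶ D} {inr : C ⟶ D}
    (h : IsPushout φ ψ inl inr) (hψ : Function.Surjective ψ.hom) :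
    RingHom.ker inl.hom = (RingHom.ker ψ.hom).map φ.hom := by
  refine le_antisymm ?_ (Ideal.map_le_iff_le_comap.2 fun a ha => ?_)
  · intro b hb
    let J := (RingHom.ker ψ.hom).map φ.hom
    have hker : RingHom.ker ψ.hom ≤ RingHom.ker ((Ideal.Quotient.mk J).comp φ.hom) := fun a ha => by
      rw [RingHom.mem_ker, RingHom.comp_apply, Ideal.Quotient.eq_zero_iff_mem]
      exact Ideal.mem_map_of_mem _ ha
    let ρ : C →+* B ⧸ J := RingHom.liftOfSurjective ψ.hom hψ ⟨_, hker⟩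
    have hρ : φ ≫ CommRingCat.ofHom (Ideal.Quotient.mk J) = ψ ≫ CommRingCat.ofHom ρ := by
      ext a
      exact (RingHom.liftOfRightInverse_comp_apply ψ.hom (Function.surjInv hψ) (Function.rightInverse_surjInv hψ) ⟨(Ideal.Quotient.mk J).comp φ.hom, hker⟩ a).symm
    have h1 := ConcreteCategory.congr_hom (h.inl_desc _ _ hρ) b
    rw [RingHom.mem_ker] at hb
    change (h.desc _ _ hρ).hom (inl.hom b) = Ideal.Quotient.mk J b at h1
    rw [hb, map_zero] at h1
    exact Ideal.Quotient.eq_zero_iff_mem.1 h1.symm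
  · rw [Ideal.mem_comap, RingHom.mem_ker]
    have h1 := ConcreteCategory.congr_hom h.w a
    change inl.hom (φ.hom a) = inr.hom (ψ.hom a) at h1
    rw [h1, show ψ.hom a = 0 from ha, map_zero]

variable {X Y X' Y' : Scheme.{u}} {i : Y ⟶ X} {g : X' ⟶ X} {i' : Y' ⟶ X'} {g' : Y' ⟶ Y}

theorem isClosedImmersion_restrict (hsq : IsPullback g' i' i g) {U : X.Opens}
    [IsClosedImmersion (i ∣_ U)] {U' : X'.Opens} (e : U' ≤ g ⁻¹ᵁ U) : IsClosedImmersion (i' ∣_ U') := by
  have H := (isPullback_morphismRestrict i' U').flip.paste_horiz hsq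
  rw [← Scheme.Hom.resLE_comp_ι g e] at H
  have t := (isPullback_morphismRestrict i U).flip
  let l := t.lift _ (i' ∣_ U' ≫ g.resLE U U' e) (H.w.trans (Category.assoc _ _ _).symm)
  rw [← t.lift_fst _ (i' ∣_ U' ≫ g.resLE U U' e) (H.w.trans (Category.assoc _ _ _).symm)] at H
  exact MorphismProperty.of_isPullback (IsPullback.of_right H (t.lift_snd _ _ _) t) inferInstance

theorem isAffineOpen_preimage (i : Y ⟶ X) {U : X.Opens} (hU : IsAffineOpen U)
    [IsClosedImmersion (i ∣_ U)] : IsAffineOpen (i ⁻¹ᵁ U) := by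
  haveI : IsAffine U.toScheme := hU
  exact isAffine_of_isAffineHom (i ∣_ U)

theorem app_surjective (i : Y ⟶ X) {U : X.Opens} (hU : IsAffineOpen U)
    [IsClosedImmersion (i ∣_ U)] : Function.Surjective (i.app U).hom := by
  haveI : IsAffine U.toScheme := hU
  have h := (i ∣_ U).app_surjective ⊤ (isAffineOpen_top _)
  rw [morphismRestrict_app] at h
  intro y
  have hUU : U.ι ''ᵁ ⊤ = U := U.ι_image_top
  let e1 : Γ(Y, i ⁻¹ᵁ U) ⟶ Γ(Y, (i ⁻¹ᵁ U).ι ''ᵁ ⊤) :=
    Y.presheaf.map (eqToHom (i ⁻¹ᵁ U).ι_image_top).op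
  obtain ⟨x, hx⟩ := h (e1 y)
  refine ⟨(X.presheaf.map (eqToHom hUU.symm).op).hom x, ?_⟩
  have h2 := ConcreteCategory.congr_hom (i.naturality (eqToHom hUU.symm).op) x
  apply (ConcreteCategory.bijective_of_isIso (Y.presheaf.map (eqToHom (i ⁻¹ᵁ U).ι_image_top).op)).1
  change _ = e1 y
  rw [← hx]
  change (Y.presheaf.map _).hom ((i.app U).hom ((X.presheaf.map _).hom x)) = _
  erw [h2]
  change ((Y.presheaf.map _) ≫ Y.presheaf.map _).hom ((i.app _).hom x) = (Y.presheaf.map _).hom ((i.app _).hom x)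
  rw [← Functor.map_comp]
  rfl

theorem ker_app_baseChange (hsq : IsPullback g' i' i g) {U : X.Opens} (hU : IsAffineOpen U)
    [IsClosedImmersion (i ∣_ U)] {U' : X'.Opens} (hU' : IsAffineOpen U') (e : U' ≤ g ⁻¹ᵁ U) :
    RingHom.ker (i'.app U').hom = (RingHom.ker (i.app U).hom).map (g.appLE U U' e).hom := by
  have hc : IsPullback i' g' g i := hsq.flip
  have h' : i' ⁻¹ᵁ U' ≤ g' ⁻¹ᵁ (i ⁻¹ᵁ U) := by
    rw [← Scheme.Hom.comp_preimage, ← hc.w, Scheme.Hom.comp_preimage]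
    exact fun x hx => e hx
  have hUY : i' ⁻¹ᵁ U' = i' ⁻¹ᵁ U' ⊓ g' ⁻¹ᵁ (i ⁻¹ᵁ U) := (inf_eq_left.mpr h').symm
  have h := (isIso_pushoutSection_iff hc le_rfl e hUY).mp
    (isIso_pushoutSection_of_isAffineOpen hc le_rfl e hUY hU (isAffineOpen_preimage i hU) hU')
  have h2 : IsPushout (g.appLE U U' e) (i.app U) (i'.app U') (g'.appLE (i ⁻¹ᵁ U) (i' ⁻¹ᵁ U') h') := by
    simpa [Scheme.Hom.app_eq_appLE] using h
  exact ker_inl_of_isPushout h2 (app_surjective i hU)

/-- Koszul-regular immersions are stable under flat base change. -/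
theorem isRegularImmersionAt_baseChange (hsq : IsPullback g' i' i g) [Flat g] {z' : Y'}
    (h : RegImm.IsRegularImmersionAt .koszul i (g' z')) :
    RegImm.IsRegularImmersionAt .koszul i' z' := by
  obtain ⟨⟨U, hU⟩, hz, hci, rs, hrs, hker⟩ := h
  haveI := hci
  have hmem : i' z' ∈ g ⁻¹ᵁ U := by
    change g (i' z') ∈ U
    rw [← Scheme.Hom.comp_apply, ← hsq.w, Scheme.Hom.comp_apply]
    exact hz
  obtain ⟨U', hU', hz', hle⟩ := exists_isAffineOpen_mem_and_subset hmem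
  refine ⟨⟨U', hU'⟩, hz', isClosedImmersion_restrict hsq hle, rs.map (g.appLE U U' hle).hom, ?_, ?_⟩
  · exact KReg44.isKoszulRegularSeq_map _ (g.flat_appLE hU hU' hle) hrs
  · rw [ker_app_baseChange hsq hU hU' hle, hker, Ideal.map_ofList]

end Groth.Agent.RegImm44
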