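import Groth.Agent.RegImm44.Affine
import Groth.Agent.KReg44.Smooth
import Mathlib.AlgebraicGeometry.Morphisms.Smooth

/-!
# Koszul-regular immersions and smooth morphisms
-/

universe u

open AlgebraicGeometry CategoryTheory Limits MorphismProperty

namespace Groth.Agent.RegImm44

variable {X V V' : Scheme.{u}}

theorem ker_appLE_of_eq (j : X ⟶ V') {W : V'.Opens} {T : X.Opens} (hT : T = j ⁻¹ᵁ W) :
    RingHom.ker (j.appLE W T hT.le).hom = RingHom.ker (j.app W).hom := by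
  subst hT; rw [← Scheme.Hom.app_eq_appLE]

/-- Compatible charts of a smooth comparison map. -/
theorem exists_chart_smooth (i : X ⟶ V) [IsImmersion i] (j : X ⟶ V') [IsImmersion j]
    (p : V' ⟶ V) [Smooth p] (h : j ≫ p = i) (x : X) :
    ∃ (U : V.Opens) (W : V'.Opens) (e : W ≤ p ⁻¹ᵁ U), IsAffineOpen U ∧ IsAffineOpen W ∧ i x ∈ U ∧ j x ∈ W ∧
      IsClosedImmersion (i ∣_ U) ∧ IsClosedImmersion (j ∣_ W) ∧ i ⁻¹ᵁ U = j ⁻¹ᵁ W ∧
      (p.appLE U W e).hom.IsStandardSmooth := by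
  obtain ⟨U₀, -, hxU₀, hci⟩ := exists_chart i x
  obtain ⟨V₀, -, hxV₀, hcj⟩ := exists_chart j x
  haveI := hci
  haveI := hcj
  obtain ⟨U₁, hU₁, W₁, hW₁, hxW₁, e₁, hstd⟩ := Smooth.exists_isStandardSmooth p (j x)
  obtain ⟨w, hwle, hxw⟩ := hW₁.exists_basicOpen_le (V := V₀) ⟨_, hxV₀⟩ hxW₁
  have hix : i x = p (j x) := by rw [← Scheme.Hom.comp_apply, h]
  have hxU₁ : i x ∈ U₁ := hix ▸ e₁ hxW₁
  obtain ⟨t, ht, htw⟩ := i.isEmbedding.isInducing.isOpen_iff.1 (j ⁻¹ᵁ V'.basicOpen w).2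
  let T : V.Opens := ⟨t, ht⟩ ⊓ U₀
  have hxT : i x ∈ T := by
    refine ⟨?_, hxU₀⟩
    change x ∈ i ⁻¹' t
    rw [htw]
    exact hxw
  obtain ⟨s, hsle, hxs⟩ := hU₁.exists_basicOpen_le (V := T) ⟨_, hxT⟩ hxU₁
  have e₂ : V'.basicOpen w ≤ p ⁻¹ᵁ U₁ := (V'.basicOpen_le w).trans e₁
  have hW₂ : IsAffineOpen (V'.basicOpen w) := hW₁.basicOpen w
  let W := V'.basicOpen ((p.appLE U₁ (V'.basicOpen w) e₂).hom s)
  have hW : W = V'.basicOpen w ⊓ p ⁻¹ᵁ V.basicOpen s := Scheme.basicOpen_appLE p _ _ e₂ s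
  have e : W ≤ p ⁻¹ᵁ V.basicOpen s := hW.trans_le inf_le_right
  refine ⟨V.basicOpen s, W, e, hU₁.basicOpen s, hW₂.basicOpen _, hxs, ?_, ?_, ?_, ?_, ?_⟩
  · rw [hW]
    exact ⟨hxw, show p (j x) ∈ V.basicOpen s from hix ▸ hxs⟩
  · exact isClosedImmersion_restrict_of_le i (hsle.trans inf_le_right)
  · exact isClosedImmersion_restrict_of_le j ((hW.trans_le inf_le_left).trans hwle)
  · rw [hW, Scheme.Hom.preimage_inf, ← Scheme.Hom.comp_preimage, h, inf_eq_right.2]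
    intro z hz
    change z ∈ (j ⁻¹ᵁ V'.basicOpen w).carrier
    rw [← htw]
    exact (hsle hz).1
  · letI := hU₁.isLocalization_basicOpen s
    letI := hW₂.isLocalization_basicOpen ((p.appLE U₁ (V'.basicOpen w) e₂).hom s)
    have h1 : (p.appLE U₁ (V'.basicOpen w) e₂).hom.IsStandardSmooth := by
      rw [show p.appLE U₁ (V'.basicOpen w) e₂ = p.appLE U₁ W₁ e₁ ≫ V'.presheaf.map (homOfLE (V'.basicOpen_le w)).op
        from (Scheme.Hom.appLE_map p e₁ _).symm, CommRingCat.hom_comp]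
      letI := hW₁.isLocalization_basicOpen w
      exact RingHom.isStandardSmooth_stableUnderCompositionWithLocalizationAway.right _ w _ hstd
    have h2 := RingHom.isStandardSmooth_localizationPreserves.away
      (p.appLE U₁ (V'.basicOpen w) e₂).hom s Γ(V, V.basicOpen s) Γ(V', W) h1
    have h3 := congrArg CommRingCat.Hom.hom (hU₁.appLE_eq_away_map p hW₂ e₂ s)
    rw [CommRingCat.hom_ofHom] at h3
    rw [← h3] at h2
    exact h2

theorem isRegularImmersionAt_iff_of_smooth (i : X ⟶ V) [IsImmersion i] (j : X ⟶ V') [IsImmersion j]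
    (p : V' ⟶ V) [Smooth p] (h : j ≫ p = i) :
    RegImm.IsRegularImmersion .koszul i ↔ RegImm.IsRegularImmersion .koszul j := by
  have key : ∀ x, ∃ (U : V.Opens) (W : V'.Opens), ∃ (hU : IsAffineOpen U) (hW : IsAffineOpen W),
      i x ∈ U ∧ j x ∈ W ∧ IsClosedImmersion (i ∣_ U) ∧ IsClosedImmersion (j ∣_ W) ∧
      (LCI.IsKoszulRegularIdeal (RingHom.ker (i.app U).hom) ↔
        LCI.IsKoszulRegularIdeal (RingHom.ker (j.app W).hom)) := fun x => by
    obtain ⟨U, W, e, hU, hW, hxU, hxW, hci, hcj, heq, hstd⟩ := exists_chart_smooth i j p h x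
    refine ⟨U, W, hU, hW, hxU, hxW, hci, hcj, ?_⟩
    haveI := hci
    have hcomp : p.appLE U W e ≫ j.appLE W (i ⁻¹ᵁ U) heq.le = i.app U := by
      rw [Scheme.Hom.appLE_comp_appLE, Scheme.Hom.app_eq_appLE]
      subst h
      rfl
    rw [← ker_appLE_of_eq j heq, ← hcomp, CommRingCat.hom_comp]
    refine KReg44.isKoszulRegularIdeal_ker_iff _ hstd _ ?_
    rw [← CommRingCat.hom_comp, hcomp]
    exact app_surjective i hU
  constructor <;> intro hreg
  · refine ⟨inferInstance, fun x => ?_⟩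
    obtain ⟨U, W, hU, hW, hxU, hxW, hci, hcj, hiff⟩ := key x
    haveI := hci
    haveI := hcj
    exact isRegularImmersionAt_of_isKoszulRegularIdeal j hW (hiff.1 (isKoszulRegularIdeal_ker i hreg.2 hU)) x hxW
  · refine ⟨inferInstance, fun x => ?_⟩
    obtain ⟨U, W, hU, hW, hxU, hxW, hci, hcj, hiff⟩ := key x
    haveI := hci
    haveI := hcj
    exact isRegularImmersionAt_of_isKoszulRegularIdeal i hU (hiff.2 (isKoszulRegularIdeal_ker j hreg.2 hW)) x hxU

end Groth.Agent.RegImm44
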