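import Groth.Agent.RegImm44.Smooth

/-!
# Locality on the source, and Koszul morphisms
-/

universe u

open AlgebraicGeometry CategoryTheory Limits MorphismProperty

namespace Groth.Agent.RegImm44

variable {X Y Z : Scheme.{u}}

/-- A common affine chart of `o ≫ i` and `i`, for an open immersion `o`. -/
theorem exists_chart_open_comp (i : X ⟶ Z) [IsImmersion i] {U : Scheme.{u}} (o : U ⟶ X) [IsOpenImmersion o]
    (u : U) : ∃ D : Z.Opens, IsAffineOpen D ∧ i (o u) ∈ D ∧ IsClosedImmersion (i ∣_ D) ∧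
      IsClosedImmersion ((o ≫ i) ∣_ D) ∧ RingHom.ker ((o ≫ i).app D).hom = RingHom.ker (i.app D).hom := by
  obtain ⟨U₀, hU₀, hxU₀, hci⟩ := exists_chart i (o u)
  obtain ⟨t, ht, htU⟩ := i.isEmbedding.isInducing.isOpen_iff.1 o.opensRange.2
  let T : Z.Opens := ⟨t, ht⟩ ⊓ U₀
  have hxT : i (o u) ∈ T := by
    refine ⟨?_, hxU₀⟩
    change o u ∈ i ⁻¹' t
    rw [htU]
    exact ⟨u, rfl⟩
  obtain ⟨s, hsle, hxs⟩ := hU₀.exists_basicOpen_le (V := T) ⟨_, hxT⟩ hxU₀
  let D := Z.basicOpen s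
  have hDU : i ⁻¹ᵁ D ≤ o.opensRange := by
    intro z hz
    change z ∈ o.opensRange.carrier
    rw [← htU]
    exact (hsle hz).1
  haveI := hci
  haveI hciD : IsClosedImmersion (i ∣_ D) := isClosedImmersion_restrict_of_le i (hsle.trans inf_le_right)
  haveI : IsIso (o ∣_ (i ⁻¹ᵁ D)) := by
    rw [isIso_iff_isOpenImmersion_and_surjective]
    refine ⟨inferInstance, ⟨fun z => ?_⟩⟩
    obtain ⟨w, hw⟩ := hDU z.2
    refine ⟨⟨w, show o w ∈ i ⁻¹ᵁ D from hw ▸ z.2⟩, Subtype.ext ?_⟩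
    rw [morphismRestrict_base_coe]
    exact hw
  refine ⟨D, hU₀.basicOpen s, hxs, hciD, ?_, ?_⟩
  · rw [morphismRestrict_comp]
    haveI : IsClosedImmersion (o ∣_ (i ⁻¹ᵁ D)) := MorphismProperty.of_isIso @IsClosedImmersion _
    exact IsClosedImmersion.comp (o ∣_ (i ⁻¹ᵁ D)) (i ∣_ D)
  · haveI := o.isIso_app (i ⁻¹ᵁ D) hDU
    rw [Scheme.Hom.comp_app]
    change RingHom.ker ((o.app (i ⁻¹ᵁ D)).hom.comp (i.app D).hom) = _
    rw [RingHom.ker_comp_of_injective]
    exact (ConcreteCategory.bijective_of_isIso (o.app (i ⁻¹ᵁ D))).1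

theorem isRegularImmersionAt_of_ι_comp (i : X ⟶ Z) [IsImmersion i] (U : X.Opens)
    (h : RegImm.IsRegularImmersion .koszul (U.ι ≫ i)) (x : U) :
    RegImm.IsRegularImmersionAt .koszul i (U.ι x) := by
  obtain ⟨D, hD, hxD, hci, hci', hker⟩ := exists_chart_open_comp i U.ι x
  haveI := hci
  haveI := hci'
  refine isRegularImmersionAt_of_isKoszulRegularIdeal i hD ?_ _ hxD
  rw [← hker]
  exact isKoszulRegularIdeal_ker _ h.2 hD

theorem isRegularImmersion_open_comp (i : X ⟶ Z) {U : Scheme.{u}} (o : U ⟶ X) [IsOpenImmersion o]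
    (h : RegImm.IsRegularImmersion .koszul i) : RegImm.IsRegularImmersion .koszul (o ≫ i) := by
  haveI := h.1
  refine ⟨inferInstance, fun u => ?_⟩
  obtain ⟨D, hD, hxD, hci, hci', hker⟩ := exists_chart_open_comp i o u
  haveI := hci
  haveI := hci'
  refine isRegularImmersionAt_of_isKoszulRegularIdeal (o ≫ i) hD ?_ _ hxD
  rw [hker]
  exact isKoszulRegularIdeal_ker i h.2 hD

/-- An immersion over a smooth scheme lifting a Koszul morphism is Koszul-regular. -/
theorem isRegularImmersion_of_isKoszulAt {f : X ⟶ Y} (hf : ∀ x, Synt.IsKoszulAt f x)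
    (p : Z ⟶ Y) [Smooth p] (i : X ⟶ Z) [IsImmersion i] (h : i ≫ p = f) :
    RegImm.IsRegularImmersion .koszul i := by
  refine ⟨inferInstance, fun x => ?_⟩
  obtain ⟨U, P, i', π, hxU, -, hi', hπ, hfac⟩ := hf x
  haveI := hπ
  haveI := hi'.1
  have w : i' ≫ π = (U.ι ≫ i) ≫ p := by rw [hfac, Category.assoc, h]
  let k := pullback.lift i' (U.ι ≫ i) w
  have hk1 : k ≫ pullback.fst π p = i' := pullback.lift_fst _ _ _
  have hk2 : k ≫ pullback.snd π p = U.ι ≫ i := pullback.lift_snd _ _ _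
  haveI : IsImmersion (k ≫ pullback.fst π p) := by rw [hk1]; infer_instance
  haveI : IsImmersion k := IsImmersion.of_comp k (pullback.fst π p)
  have hk : RegImm.IsRegularImmersion .koszul k :=
    (isRegularImmersionAt_iff_of_smooth i' k (pullback.fst π p) hk1).1 hi'
  exact isRegularImmersionAt_of_ι_comp i U
    ((isRegularImmersionAt_iff_of_smooth (U.ι ≫ i) k (pullback.snd π p) hk2).2 hk) ⟨x, hxU⟩

/-- Koszul morphisms restrict to open subschemes. -/
theorem isKoszulAt_open_comp {f : X ⟶ Y} {U : Scheme.{u}} (o : U ⟶ X) [IsOpenImmersion o] (u : U)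
    (hf : Synt.IsKoszulAt f (o u)) : Synt.IsKoszulAt (o ≫ f) u := by
  obtain ⟨V, P, i, π, hxV, hlft, hi, hπ, hfac⟩ := hf
  haveI := hlft
  have e : (o ∣_ V) ≫ V.ι = (o ⁻¹ᵁ V).ι ≫ o := morphismRestrict_ι o V
  refine ⟨o ⁻¹ᵁ V, P, (o ∣_ V) ≫ i, π, hxV, ?_, isRegularImmersion_open_comp i _ hi, hπ, ?_⟩
  · rw [← Category.assoc, ← e, Category.assoc]
    infer_instance
  · rw [Category.assoc, hfac, ← Category.assoc, e, Category.assoc]

end Groth.Agent.RegImm44
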