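import Groth.Agent.RegImm44.Affine
import Groth.Agent.RegImm38.Seq
import Groth.Agent.RegLoc.H1Seq
import Mathlib.LinearAlgebra.Matrix.ToLin
import Mathlib.LinearAlgebra.Matrix.NonsingularInverse

/-!
# Descent of quasi-regular and H₁-regular immersions along fpqc base change
-/

set_option autoImplicit false

universe u

open AlgebraicGeometry CategoryTheory Limits TensorProduct

namespace Groth.Agent.RegImm44

section Algebra

variable {R : Type u} [CommRing R]

/-- The trivial relations. -/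
def triv {r : ℕ} (f : Fin r → R) : Submodule R (Fin r → R) :=
  Submodule.span R {v : Fin r → R | ∃ i j : Fin r, v = Pi.single i (f j) - Pi.single j (f i)}

theorem single_mul {r : ℕ} (f : Fin r → R) (i : Fin r) (a : Fin r → R) (ha : ∑ j, a j * f j = 0) :
    f i • a ∈ triv f := by
  classical
  have : f i • a = ∑ j, a j • (Pi.single j (f i) - Pi.single i (f j) : Fin r → R) := by
    funext k
    simp only [Finset.sum_apply, Pi.smul_apply, Pi.sub_apply, smul_eq_mul, mul_sub, Finset.sum_sub_distrib]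
    by_cases hk : k = i
    · subst hk
      have h0 : ∑ x, f x * a x = 0 := by simpa [mul_comm] using ha
      simp [Pi.single_apply, mul_comm]
      simp [mul_comm, h0] at ha ⊢
    · simp [Pi.single_apply, hk, mul_comm]
  rw [this]
  exact Submodule.sum_mem _ fun j _ => Submodule.smul_mem _ _ (Submodule.subset_span ⟨j, i, rfl⟩)

/-- Trivial relations go to trivial relations under a change of generators. -/
theorem vecMul_mem_triv {r c : ℕ} {f : Fin r → R} {l : Fin c → R} (N : Matrix (Fin c) (Fin r) R)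
    (hl : ∀ p, l p = ∑ t, N p t * f t) {a : Fin c → R} (ha : a ∈ triv l) :
    Matrix.vecMul a N ∈ triv f := by
  classical
  induction ha using Submodule.span_induction with
  | mem v hv =>
    obtain ⟨p, q, rfl⟩ := hv
    have : Matrix.vecMul (Pi.single p (l q) - Pi.single q (l p)) N =
        ∑ t, ∑ k, (N q t * N p k) • (Pi.single k (f t) - Pi.single t (f k) : Fin r → R) := by
      funext s
      rw [Matrix.sub_vecMul, Matrix.single_vecMul, Matrix.single_vecMul, Pi.sub_apply, Pi.smul_apply,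
        Pi.smul_apply, hl q, hl p]
      simp only [Matrix.row_apply, Finset.sum_apply, Pi.smul_apply, Pi.sub_apply, smul_eq_mul, mul_sub,
        Finset.sum_sub_distrib, Pi.single_apply, mul_ite, mul_zero, Finset.sum_ite_eq, Finset.sum_ite_eq',
        Finset.mem_univ, if_true, Finset.sum_mul]
      congr 1
      · exact Finset.sum_congr rfl fun t _ => by ring
      · rw [Finset.sum_comm]
        simp only [Finset.sum_ite_eq, Finset.mem_univ, if_true]
        exact Finset.sum_congr rfl fun t _ => by ring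
    rw [this]
    exact Submodule.sum_mem _ fun t _ => Submodule.sum_mem _ fun k _ =>
      Submodule.smul_mem _ _ (Submodule.subset_span ⟨k, t, rfl⟩)
  | zero => rw [Matrix.zero_vecMul]; exact zero_mem _
  | add u v _ _ hu hv => rw [Matrix.add_vecMul]; exact add_mem hu hv
  | smul b u _ hu => rw [Matrix.smul_vecMul]; exact Submodule.smul_mem _ b hu

theorem triv_le_relations {r : ℕ} (f : Fin r → R) {a : Fin r → R} (ha : a ∈ triv f) :
    ∑ i, a i * f i = 0 := by
  classical
  induction ha using Submodule.span_induction with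
  | mem v hv =>
    obtain ⟨i, j, rfl⟩ := hv
    simp [sub_mul, Finset.sum_sub_distrib, Pi.single_apply, mul_comm (f i)]
  | zero => simp
  | add u v _ _ hu hv => simp [add_mul, Finset.sum_add_distrib, hu, hv]
  | smul b u _ hu => simp [mul_assoc, ← Finset.mul_sum, hu]

/-- In a local ring `H₁`-regularity does not depend on the minimal generators. -/
theorem isH1Regular_of_span_eq [IsLocalRing R] {r c : ℕ} (f : Fin r → R) (l : Fin c → R)
    (hrel : ∀ a : Fin r → R, ∑ i, a i * f i = 0 → ∀ i, a i ∈ IsLocalRing.maximalIdeal R)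
    (hl : CAlgX.IsH1Regular l) (hspan : Ideal.span (Set.range f) = Ideal.span (Set.range l)) :
    CAlgX.IsH1Regular f := by
  classical
  have hf : ∀ i, ∃ m : Fin c → R, ∑ p, m p * l p = f i := fun i => by
    simpa [smul_eq_mul] using (Submodule.mem_span_range_iff_exists_fun R).1
      (hspan.le (Ideal.subset_span ⟨i, rfl⟩))
  have hl' : ∀ p, ∃ m : Fin r → R, ∑ t, m t * f t = l p := fun p => by
    simpa [smul_eq_mul] using (Submodule.mem_span_range_iff_exists_fun R).1
      (hspan.ge (Ideal.subset_span ⟨p, rfl⟩))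
  choose M hM using hf
  choose N hN using hl'
  let P : Matrix (Fin r) (Fin r) R := Matrix.of M * Matrix.of N
  have hP : P.mulVec f = f := by
    have h1 : (Matrix.of N).mulVec f = l := funext fun p => hN p
    have h2 : (Matrix.of M).mulVec l = f := funext fun i => hM i
    rw [← Matrix.mulVec_mulVec, h1, h2]
  have hdet : IsUnit P.det := by
    have hmap : P.map (IsLocalRing.residue R) = 1 := by
      ext i j
      have h0 : ∑ k, (P i k - (1 : Matrix (Fin r) (Fin r) R) i k) * f k = 0 := by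
        have := congrFun hP i
        simp only [sub_mul, Finset.sum_sub_distrib]
        rw [show ∑ k, P i k * f k = f i from this]
        simp [Matrix.one_apply]
      have h1 := (IsLocalRing.residue_eq_zero_iff _).2 (hrel _ h0 j)
      rw [map_sub, sub_eq_zero] at h1
      rw [Matrix.map_apply, h1]
      simp [Matrix.one_apply, apply_ite (IsLocalRing.residue R)]
    have h2 : IsLocalRing.residue R P.det = 1 := by
      rw [RingHom.map_det]
      change (P.map (IsLocalRing.residue R)).det = 1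
      rw [hmap, Matrix.det_one]
    by_contra hu
    rw [(IsLocalRing.residue_eq_zero_iff _).2 ((IsLocalRing.mem_maximalIdeal _).2 hu)] at h2
    exact zero_ne_one h2
  intro a ha
  have hM' : ∀ i, f i = ∑ p, Matrix.of M i p * l p := fun i => (hM i).symm
  have haM : ∑ p, Matrix.vecMul a (Matrix.of M) p * l p = 0 := by
    simp only [Matrix.vecMul, dotProduct, Finset.sum_mul]
    rw [Finset.sum_comm]
    calc ∑ i, ∑ p, a i * Matrix.of M i p * l p = ∑ i, a i * f i :=
          Finset.sum_congr rfl fun i _ => by rw [hM' i, Finset.mul_sum]; simp [mul_assoc]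
      _ = 0 := ha
  have h1 : Matrix.vecMul a P ∈ triv f := by
    rw [← Matrix.vecMul_vecMul]
    exact vecMul_mem_triv _ (fun p => (hN p).symm) (hl _ haM)
  have hU : P⁻¹.mulVec f = f := by
    have h3 := congrArg P⁻¹.mulVec hP
    rw [Matrix.mulVec_mulVec, Matrix.nonsing_inv_mul _ hdet, Matrix.one_mulVec] at h3
    exact h3.symm
  have h2 := vecMul_mem_triv (f := f) P⁻¹ (fun p => (congrFun hU p).symm) h1
  rwa [Matrix.vecMul_vecMul, Matrix.mul_nonsing_inv _ hdet, Matrix.vecMul_one] at h2

/-- A quasi-regular sequence which becomes `H₁`-regular in flat local rings over every point is `H₁`-regular. -/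
theorem isH1Regular_of_flat_local {r : ℕ} (f : Fin r → R) (hq : CAlgX.IsQuasiRegular f)
    (h : ∀ P : Ideal R, P.IsPrime → Ideal.span (Set.range f) ≤ P →
      ∃ (C : Type u) (_ : CommRing C) (_ : IsLocalRing C) (φ : R →+* C), φ.Flat ∧
        (IsLocalRing.maximalIdeal C).comap φ = P ∧
        ∃ (c : ℕ) (l : Fin c → C), CAlgX.IsH1Regular l ∧
          Ideal.span (Set.range l) = (Ideal.span (Set.range f)).map φ) :
    CAlgX.IsH1Regular f := by
  classical
  intro a ha
  let T : Ideal R := (triv f).comap (LinearMap.toSpanSingleton R (Fin r → R) a)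
  by_contra hne
  have hT : T ≠ ⊤ := fun hT => hne (by
    have h1 : (1 : R) ∈ T := hT ▸ Submodule.mem_top
    simp only [T, Submodule.mem_comap, LinearMap.toSpanSingleton_apply, one_smul] at h1
    exact h1)
  obtain ⟨P, hP, hTP⟩ := Ideal.exists_le_maximal T hT
  have hfP : Ideal.span (Set.range f) ≤ P := Ideal.span_le.2 (by
    rintro _ ⟨i, rfl⟩
    exact hTP (show f i • a ∈ triv f from single_mul f i a ha))
  obtain ⟨C, _, _, φ, hφ, hcomap, c, l, hl, hspan⟩ := h P hP.isPrime hfP
  letI := φ.toAlgebra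
  haveI : Module.Flat R C := hφ
  have hqC : CAlgX.IsQuasiRegular (fun i => φ (f i)) := CAlg48.QRBase.isQuasiRegular_of_flat hq
  have hmap : Ideal.span (Set.range fun i => φ (f i)) = (Ideal.span (Set.range f)).map φ := by
    rw [Ideal.map_span, ← Set.range_comp]; rfl
  have hmax : Ideal.span (Set.range fun i => φ (f i)) ≤ IsLocalRing.maximalIdeal C := by
    rw [hmap, Ideal.map_le_iff_le_comap, hcomap]; exact hfP
  have hC : CAlgX.IsH1Regular (fun i => φ (f i)) :=
    isH1Regular_of_span_eq _ l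
      (fun b hb i => hmax (KReg44.coeff_of_isQuasiRegular hqC (by rw [hb]; exact zero_mem _) i))
      hl (hmap.trans hspan.symm)
  have hmem : (fun i => φ (a i)) ∈ triv (fun i => φ (f i)) := hC _ (by
    simp only [← map_mul, ← map_sum, ha, map_zero])
  let π := TensorProduct.piScalarRight R C C (Fin r)
  have hlift : ∀ v ∈ triv (fun i => φ (f i)), π.symm v ∈ LinearMap.range ((triv f).subtype.baseChange C) := by
    intro v hv
    induction hv using Submodule.span_induction with
    | mem v hv =>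
      obtain ⟨i, j, rfl⟩ := hv
      refine ⟨1 ⊗ₜ ⟨_, Submodule.subset_span ⟨i, j, rfl⟩⟩, ?_⟩
      apply π.injective
      rw [LinearEquiv.apply_symm_apply, LinearMap.baseChange_tmul, Submodule.subtype_apply]
      funext k
      simp [π, TensorProduct.piScalarRightHom_tmul, Pi.single_apply, Algebra.smul_def,
        apply_ite (algebraMap R C), RingHom.algebraMap_toAlgebra, apply_ite φ]
    | zero => rw [map_zero]; exact zero_mem _
    | add u v _ _ hu hv => rw [map_add]; exact add_mem hu hv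
    | smul b u _ hu => rw [map_smul]; exact Submodule.smul_mem _ b hu
  have hzero : (1 : C) ⊗ₜ[R] (Submodule.Quotient.mk a : (Fin r → R) ⧸ triv f) = 0 := by
    have hsymm : π.symm (fun i => φ (a i)) = (1 : C) ⊗ₜ[R] a := by
      apply π.injective
      rw [LinearEquiv.apply_symm_apply]
      funext k
      simp [π, TensorProduct.piScalarRightHom_tmul, Algebra.smul_def, RingHom.algebraMap_toAlgebra]
    obtain ⟨w, hw⟩ := hlift _ hmem
    rw [hsymm] at hw
    rw [show (1 : C) ⊗ₜ[R] (Submodule.Quotient.mk a : (Fin r → R) ⧸ triv f) =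
      (triv f).mkQ.baseChange C ((1 : C) ⊗ₜ[R] a) from rfl, ← hw]
    clear hw
    induction w using TensorProduct.induction_on with
    | zero => simp
    | tmul s x =>
      rw [LinearMap.baseChange_tmul, LinearMap.baseChange_tmul, Submodule.subtype_apply,
        Submodule.mkQ_apply, (Submodule.Quotient.mk_eq_zero _).2 x.2, TensorProduct.tmul_zero]
    | add x y hx hy => rw [map_add, map_add, hx, hy, add_zero]
  -- the annihilator of the class meets the unit ideal after base change
  let u : (R ⧸ T) →ₗ[R] (Fin r → R) ⧸ triv f :=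
    Submodule.liftQ T ((triv f).mkQ ∘ₗ LinearMap.toSpanSingleton R (Fin r → R) a) (fun t ht => by
      rw [LinearMap.mem_ker, LinearMap.comp_apply, Submodule.mkQ_apply, Submodule.Quotient.mk_eq_zero]
      exact ht)
  have hu : Function.Injective u := by
    rw [← LinearMap.ker_eq_bot, eq_bot_iff]
    intro x hx
    obtain ⟨t, rfl⟩ := Submodule.Quotient.mk_surjective T x
    rw [LinearMap.mem_ker, Submodule.liftQ_apply, LinearMap.comp_apply, Submodule.mkQ_apply,
      Submodule.Quotient.mk_eq_zero] at hx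
    rw [Submodule.mem_bot, Submodule.Quotient.mk_eq_zero]
    exact hx
  have h1 : (1 : C) ⊗ₜ[R] (Submodule.Quotient.mk 1 : R ⧸ T) = 0 := by
    apply Module.Flat.lTensor_preserves_injective_linearMap (M := C) u hu
    rw [LinearMap.lTensor_tmul, map_zero]
    convert hzero using 2
    change Submodule.Quotient.mk ((1 : R) • a) = Submodule.Quotient.mk a
    rw [one_smul]
  have h2 : (1 : C) ∈ T.map φ := by
    have h3 := congrArg (Algebra.TensorProduct.quotIdealMapEquivTensorQuot C T).symm h1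
    rw [map_zero] at h3
    have h4 : (Algebra.TensorProduct.quotIdealMapEquivTensorQuot C T).symm
        ((1 : C) ⊗ₜ[R] (Submodule.Quotient.mk 1 : R ⧸ T)) = 1 := by
      exact map_one (Algebra.TensorProduct.quotIdealMapEquivTensorQuot C T).symm
    rw [h4] at h3
    exact Ideal.Quotient.eq_zero_iff_mem.1 ((map_one (Ideal.Quotient.mk _)).trans h3)
  have h5 : T.map φ ≤ IsLocalRing.maximalIdeal C := by
    rw [Ideal.map_le_iff_le_comap, hcomap]; exact hTP
  exact (IsLocalRing.maximalIdeal.isMaximal C).ne_top ((Ideal.eq_top_iff_one _).2 (h5 h2))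

/-- Sections of a quasi-regular generating sequence map along flat maps. -/
theorem exists_map_quasi {S : Type u} [CommRing S] (φ : R →+* S) (hφ : φ.Flat) {I : Ideal R}
    (h : ∃ (r : ℕ) (f : Fin r → R), CAlgX.IsQuasiRegular f ∧ Ideal.span (Set.range f) = I) :
    ∃ (r : ℕ) (f : Fin r → S), CAlgX.IsQuasiRegular f ∧ Ideal.span (Set.range f) = I.map φ := by
  obtain ⟨r, f, hf, rfl⟩ := h
  letI := φ.toAlgebra
  haveI : Module.Flat R S := hφ
  refine ⟨r, fun i => φ (f i), CAlg48.QRBase.isQuasiRegular_of_flat hf, ?_⟩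
  rw [Ideal.map_span, ← Set.range_comp]
  rfl

theorem isLocallyQuasiRegular_pi {ι : Type u} [Finite ι] {B : ι → Type u} [∀ j, CommRing (B j)]
    (J : Ideal (Π j, B j)) (h : ∀ j, PP16.IsLocallyQuasiRegular (B j) (J.map (Pi.evalRingHom B j))) :
    PP16.IsLocallyQuasiRegular (Π j, B j) J := by
  classical
  cases nonempty_fintype ι
  intro p _ hp
  obtain ⟨j, hj⟩ : ∃ j, (Pi.single j 1 : Π j, B j) ∉ p := by
    by_contra hc
    push Not at hc
    refine Ideal.IsPrime.ne_top ‹p.IsPrime› ((Ideal.eq_top_iff_one _).2 ?_)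
    rw [show (1 : Π j, B j) = ∑ j, Pi.single j 1 from (Finset.univ_sum_single 1).symm]
    exact Ideal.sum_mem _ fun j _ => hc j
  letI : Algebra (Π j, B j) (B j) := (Pi.evalRingHom B j).toAlgebra
  let e : Π j, B j := Pi.single j 1
  have hker : ∀ x, Pi.evalRingHom B j x = 0 ↔ x * e = 0 := fun x => by
    constructor
    · intro hx
      funext k
      rcases eq_or_ne k j with rfl | hk
      · simpa [e] using hx
      · simp [e, hk]
    · intro hx
      simpa [e] using congrFun hx j
  haveI haway : IsLocalization.Away e (B j) := by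
    refine IsLocalization.away_of_isIdempotentElem_of_mul ?_ (fun x y => ?_) (Function.surjective_eval j)
    · change e * e = e
      funext k
      rcases eq_or_ne k j with rfl | hk <;> simp [e, *]
    · change Pi.evalRingHom B j x = Pi.evalRingHom B j y ↔ _
      rw [← sub_eq_zero, ← map_sub, hker, sub_mul, sub_eq_zero, mul_comm x, mul_comm y]
  have hdisj : Disjoint (Submonoid.powers e : Set (Π j, B j)) p :=
    (Ideal.disjoint_powers_iff_notMem_of_isPrime e).2 hj
  let q : Ideal (B j) := p.map (Pi.evalRingHom B j)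
  haveI hq : q.IsPrime := IsLocalization.isPrime_of_isPrime_disjoint _ (B j) _ ‹p.IsPrime› hdisj
  obtain ⟨g, hg, r, f, hf, hspan⟩ := h j q (Ideal.map_mono hp)
  let G : Π j, B j := Pi.single j g
  have hG : G ∉ p := fun hGp => hg (by
    have h1 := Ideal.mem_map_of_mem (Pi.evalRingHom B j) hGp
    simpa [G] using h1)
  let T := Localization.Away g
  haveI : IsLocalization.Away (algebraMap (Π j, B j) (B j) G) T := by
    rw [show algebraMap (Π j, B j) (B j) G = g from Pi.single_eq_same j g]; infer_instance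
  haveI : IsLocalization.Away G T := by
    have h1 := IsLocalization.Away.mul' (B j) T e G
    rwa [show e * G = G from funext fun k => by
      rcases eq_or_ne k j with rfl | hk <;> simp [e, G, *]] at h1
  let ε : T ≃ₐ[Π j, B j] Localization.Away G := IsLocalization.algEquiv (Submonoid.powers G) _ _
  obtain ⟨r', f', hf', hf'I⟩ := exists_map_quasi ε.toRingEquiv.toRingHom
    (RingHom.Flat.of_bijective ε.bijective) ⟨r, f, hf, hspan⟩
  refine ⟨G, hG, r', f', hf', hf'I.trans ?_⟩
  rw [Ideal.map_map, Ideal.map_map]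
  congr 1
  refine RingHom.ext fun x => ?_
  exact ε.commutes x

end Algebra

section Scheme

variable {X Y : Scheme.{u}} (i : Y ⟶ X)

theorem exists_fin_of_seq {R : Type u} [CommRing R] {rs : List R} (h : RegImm.Kind.quasi.Seq R rs) :
    ∃ (r : ℕ) (f : Fin r → R), CAlgX.IsQuasiRegular f ∧ Ideal.span (Set.range f) = Ideal.ofList rs :=
  ⟨rs.length, rs.get, h, by rw [Ideal.ofList, Set.range_list_get]⟩

theorem isLocallyQuasiRegular_ker (h : ∀ z, RegImm.IsRegularImmersionAt .quasi i z) {U : X.Opens}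
    (hU : IsAffineOpen U) [IsClosedImmersion (i ∣_ U)] :
    PP16.IsLocallyQuasiRegular Γ(X, U) (RingHom.ker (i.app U).hom) := by
  intro P hP' hP
  obtain ⟨z, hz⟩ := exists_preimage_of_ker_le i hU ⟨P, hP'⟩ hP
  obtain ⟨⟨V, hV⟩, hzV, hci, rs, hrs, hker⟩ := h z
  haveI := hci
  have hzU : i z ∈ U := by
    rw [hz, ← SetLike.mem_coe, ← hU.range_fromSpec]; exact ⟨_, rfl⟩
  obtain ⟨f, g, hfg, hxf⟩ := exists_basicOpen_le_affine_inter hU hV (i z) ⟨hzU, hzV⟩
  refine ⟨f, ?_, ?_⟩
  · rw [hz] at hxf
    have h1 : (⟨P, hP'⟩ : PrimeSpectrum _) ∈ hU.fromSpec ⁻¹ᵁ X.basicOpen f := hxf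
    rw [hU.fromSpec_preimage_basicOpen] at h1
    exact h1
  have hDV : X.basicOpen f ≤ V := hfg ▸ X.basicOpen_le g
  let ρ := (X.presheaf.map (homOfLE hDV).op).hom
  have hρ : ρ.Flat := by
    have := (𝟙 X : X ⟶ X).flat_appLE hV (hU.basicOpen f) (show X.basicOpen f ≤ (𝟙 X : X ⟶ X) ⁻¹ᵁ V from hDV)
    rwa [show (𝟙 X : X ⟶ X).appLE V (X.basicOpen f) hDV = X.presheaf.map (homOfLE hDV).op from by simp [Scheme.Hom.appLE]; exact Category.id_comp _] at this
  haveI := hU.isLocalization_basicOpen f
  let e : Γ(X, X.basicOpen f) ≃ₐ[Γ(X, U)] Localization.Away f :=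
    IsLocalization.algEquiv (Submonoid.powers f) _ _
  obtain ⟨r, l, hl, hlI⟩ := exists_map_quasi e.toRingEquiv.toRingHom
    (RingHom.Flat.of_bijective e.bijective) (exists_map_quasi ρ hρ (exists_fin_of_seq hrs))
  refine ⟨r, l, hl, hlI.trans ?_⟩
  rw [← hker, ← ker_app_restrict i hV (hU.basicOpen f) hDV,
    ker_app_restrict i hU (hU.basicOpen f) (X.basicOpen_le f), Ideal.map_map]
  congr 1
  ext x
  exact e.commutes x

theorem isRegularImmersionAt_of_isLocallyQuasiRegular {U : X.Opens}
    (hU : IsAffineOpen U) [IsClosedImmersion (i ∣_ U)]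
    (h : PP16.IsLocallyQuasiRegular Γ(X, U) (RingHom.ker (i.app U).hom)) (z : Y) (hz : i z ∈ U) :
    RegImm.IsRegularImmersionAt .quasi i z := by
  obtain ⟨f, hf, r, l, hl, hspan⟩ := h _ (ker_le_primeIdealOf i hU z hz)
  haveI := hU.isLocalization_basicOpen f
  let e : Localization.Away f ≃ₐ[Γ(X, U)] Γ(X, X.basicOpen f) :=
    IsLocalization.algEquiv (Submonoid.powers f) _ _
  obtain ⟨r', l', hl', hl'I⟩ := exists_map_quasi e.toRingEquiv.toRingHom
    (RingHom.Flat.of_bijective e.bijective) ⟨r, l, hl, hspan⟩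
  refine ⟨⟨X.basicOpen f, hU.basicOpen f⟩, (mem_basicOpen_iff hU ⟨i z, hz⟩ f).2 hf,
    isClosedImmersion_restrict_of_le i (X.basicOpen_le f), List.ofFn l',
    RegImm38.congr_cast (fun {n} g => CAlgX.IsQuasiRegular g) (List.length_ofFn).symm (fun k => by simp) hl', ?_⟩
  rw [← KReg44.span_range_eq_ofList, hl'I, ker_app_restrict i hU (hU.basicOpen f) (X.basicOpen_le f),
    Ideal.map_map]
  congr 1
  ext x
  exact (e.commutes x).symm

variable {X' Y' : Scheme.{u}} {g : X' ⟶ X} {i' : Y' ⟶ X'} {g' : Y' ⟶ Y}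

theorem isRegularImmersion_quasi_of_baseChange
    [IsImmersion i] [Flat g] [Surjective g] [QuasiCompact g] (hsq : IsPullback g' i' i g)
    (hi' : RegImm.IsRegularImmersion .quasi i') : RegImm.IsRegularImmersion .quasi i := by
  refine ⟨inferInstance, fun z => ?_⟩
  obtain ⟨U, hU, hz, hci⟩ := exists_chart i z
  refine isRegularImmersionAt_of_isLocallyQuasiRegular i hU ?_ z hz
  obtain ⟨s, hs, he⟩ := isCompact_and_isOpen_iff_finite_and_eq_biUnion_affineOpens.mp
    ⟨g.isCompact_preimage hU.isCompact, (g ⁻¹ᵁ U).isOpen⟩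
  haveI := hs.to_subtype
  have hle : ∀ W : s, (W.1 : X'.Opens) ≤ g ⁻¹ᵁ U := fun W x hx => by
    rw [← SetLike.mem_coe, he]; exact Set.mem_iUnion₂.2 ⟨W.1, W.2, hx⟩
  let B : s → Type u := fun W => Γ(X', W.1.1)
  letI : ∀ W, Algebra Γ(X, U) (B W) := fun W => (g.appLE U W.1.1 (hle W)).hom.toAlgebra
  haveI : ∀ W, Module.Flat Γ(X, U) (B W) := fun W => g.flat_appLE hU W.1.2 (hle W)
  haveI : Module.Flat Γ(X, U) (Π W, B W) := by
    classical
    haveI := Fintype.ofFinite s
    exact Module.Flat.of_linearEquiv DFinsupp.linearEquivFunOnFintype.symm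
  haveI : Module.FaithfullyFlat Γ(X, U) (Π W, B W) := by
    refine Module.FaithfullyFlat.of_comap_surjective fun P => ?_
    obtain ⟨x', hx'⟩ := g.surjective (hU.fromSpec P)
    have hxU : hU.fromSpec P ∈ U := by
      rw [← SetLike.mem_coe, ← hU.range_fromSpec]; exact ⟨P, rfl⟩
    have hx'U : x' ∈ g ⁻¹ᵁ U := by
      change g x' ∈ U; rw [hx']; exact hxU
    rw [← SetLike.mem_coe, he] at hx'U
    obtain ⟨W, hW, hxW⟩ := Set.mem_iUnion₂.1 hx'U
    let q := W.2.primeIdealOf ⟨x', hxW⟩
    refine ⟨PrimeSpectrum.comap (Pi.evalRingHom B ⟨W, hW⟩) q, ?_⟩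
    rw [← PrimeSpectrum.comap_comp_apply]
    change PrimeSpectrum.comap (g.appLE U W.1 (hle ⟨W, hW⟩)).hom q = P
    have h1 := IsAffineOpen.comap_primeIdealOf_appLE U hU W.1 W.2 (hle ⟨W, hW⟩) hxW
    refine (h1.trans ?_)
    apply hU.fromSpec.isOpenEmbedding.injective
    exact (hU.fromSpec_primeIdealOf ⟨g x', hle ⟨W, hW⟩ hxW⟩).trans hx'
  suffices hloc : PP16.IsLocallyQuasiRegular (Π W, B W)
      ((RingHom.ker (i.app U).hom).map (algebraMap Γ(X, U) (Π W, B W))) from
    @QReg44.isLocallyQuasiRegular_of_map _ _ _ _ _ (RingHom.ker (i.app U).hom) inferInstance hloc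
  refine @isLocallyQuasiRegular_pi _ _ B _ _ fun W => ?_
  rw [Ideal.map_map, show (Pi.evalRingHom B W).comp (algebraMap Γ(X, U) (Π W, B W)) =
    (g.appLE U W.1.1 (hle W)).hom from rfl]
  haveI := hci
  rw [← ker_app_baseChange hsq hU W.1.2 (hle W)]
  haveI := isClosedImmersion_restrict hsq (hle W)
  exact isLocallyQuasiRegular_ker i' hi'.2 W.1.2

theorem isRegularImmersion_h1_of_baseChange
    [IsImmersion i] [Flat g] [Surjective g] [QuasiCompact g] (hsq : IsPullback g' i' i g)
    (hi' : RegImm.IsRegularImmersion .h1 i') : RegImm.IsRegularImmersion .h1 i := by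
  have hq' : RegImm.IsRegularImmersion .quasi i' := ⟨hi'.1, fun z' => by
    obtain ⟨V, hV, hci, rs, hrs, hker⟩ := hi'.2 z'
    exact ⟨V, hV, hci, rs, RegLoc.H1Seq.isQuasiRegular rs.get hrs, hker⟩⟩
  refine ⟨inferInstance, fun z => ?_⟩
  obtain ⟨⟨U, hU⟩, hz, hci, rs, hrs, hker⟩ := (isRegularImmersion_quasi_of_baseChange i hsq hq').2 z
  haveI := hci
  refine ⟨⟨U, hU⟩, hz, hci, rs, ?_, hker⟩
  refine isH1Regular_of_flat_local rs.get hrs fun P hP hle => ?_
  rw [show Ideal.span (Set.range rs.get) = Ideal.ofList rs by rw [Ideal.ofList, Set.range_list_get], ← hker]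
    at hle ⊢
  obtain ⟨z₁, hz₁⟩ := exists_preimage_of_ker_le i hU ⟨P, hP⟩ hle
  obtain ⟨x', hx'⟩ := g.surjective (i z₁)
  obtain ⟨z', -, hz'⟩ : ∃ z' : Y', g' z' = z₁ ∧ i' z' = x' := by
    obtain ⟨w, hw1, hw2⟩ := Scheme.Pullback.exists_preimage_pullback z₁ x' (f := i) (g := g) hx'.symm
    refine ⟨hsq.isoPullback.inv w, ?_, ?_⟩
    · rw [← Scheme.Hom.comp_apply, hsq.isoPullback_inv_fst]; exact hw1
    · rw [← Scheme.Hom.comp_apply, hsq.isoPullback_inv_snd]; exact hw2
  obtain ⟨⟨V, hV⟩, hxV, hciV, l, hl, hlker⟩ := hi'.2 z'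
  haveI := hciV
  rw [hz'] at hxV
  have hzU : i z₁ ∈ U := by
    rw [hz₁, ← SetLike.mem_coe, ← hU.range_fromSpec]; exact ⟨_, rfl⟩
  have hxU : x' ∈ g ⁻¹ᵁ U := by
    change g x' ∈ U; rw [hx']; exact hzU
  obtain ⟨W, hW, hxW, hWle⟩ := exists_isAffineOpen_mem_and_subset (U := V ⊓ g ⁻¹ᵁ U) ⟨hxV, hxU⟩
  have hWV : W ≤ V := fun y hy => (hWle hy).1
  have hWU : W ≤ g ⁻¹ᵁ U := fun y hy => (hWle hy).2
  let Q := hW.primeIdealOf ⟨x', hxW⟩
  let C := Localization.AtPrime Q.asIdeal
  let a := (g.appLE U W hWU).hom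
  let ρ := (X'.presheaf.map (homOfLE hWV).op).hom
  have hρ : ρ.Flat := by
    have := (𝟙 X' : X' ⟶ X').flat_appLE hV hW (show W ≤ (𝟙 X' : X' ⟶ X') ⁻¹ᵁ V from hWV)
    rwa [show (𝟙 X' : X' ⟶ X').appLE V W hWV = X'.presheaf.map (homOfLE hWV).op from by simp [Scheme.Hom.appLE]; exact Category.id_comp _] at this
  have hC : (algebraMap Γ(X', W) C).Flat :=
    RingHom.flat_algebraMap_iff.2 (IsLocalization.flat C Q.asIdeal.primeCompl)
  refine ⟨C, inferInstance, inferInstance, (algebraMap Γ(X', W) C).comp a,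
    RingHom.Flat.comp (g.flat_appLE hU hW hWU) hC, ?_, ?_⟩
  · have hQ : Ideal.comap (algebraMap Γ(X', W) C) (IsLocalRing.maximalIdeal C) = Q.asIdeal :=
      IsLocalization.AtPrime.under_maximalIdeal C Q.asIdeal
    rw [← Ideal.comap_comap, hQ]
    have h1 := IsAffineOpen.comap_primeIdealOf_appLE U hU W hW hWU hxW
    refine congrArg PrimeSpectrum.asIdeal (h1.trans (?_ : _ = (⟨P, hP⟩ : PrimeSpectrum _)))
    apply hU.fromSpec.isOpenEmbedding.injective
    exact (hU.fromSpec_primeIdealOf ⟨g x', hWU hxW⟩).trans (hx'.trans hz₁)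
  · let ψ := (algebraMap Γ(X', W) C).comp ρ
    letI := ψ.toAlgebra
    haveI : Module.Flat Γ(X', V) C := RingHom.Flat.comp hρ hC
    refine ⟨l.length, fun k => ψ (l.get k), RegImm38.isH1Regular_of_flat hl, ?_⟩
    rw [show Ideal.span (Set.range fun k => ψ (l.get k)) = (Ideal.span (Set.range l.get)).map ψ by
        rw [Ideal.map_span, ← Set.range_comp]; rfl,
      show Ideal.span (Set.range l.get) = Ideal.ofList l by rw [Ideal.ofList, Set.range_list_get],
      ← hlker, ← Ideal.map_map, ← ker_app_restrict i' hV hW hWV, ← Ideal.map_map,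
      ← ker_app_baseChange hsq hU hW hWU]

end Scheme

end Groth.Agent.RegImm44
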