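import Groth.Agent.RegImm44.KoszulMor
import Mathlib.RingTheory.Localization.Away.AdjoinRoot
import Mathlib.RingTheory.Regular.Flat

/-!
# Regular immersions into affine space: presentations by regular sequences
-/

universe u

open AlgebraicGeometry CategoryTheory Limits MorphismProperty RingTheory.Sequence Pointwise

namespace Groth.Agent.RegImm44

/-- Prepend an element to a regular sequence of the quotient. -/
theorem isWeaklyRegular_cons_of_surjective {P T : Type u} [CommRing P] [CommRing T] (σ : P →+* T)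
    (hσ : Function.Surjective σ) {r : P} (hk : RingHom.ker σ = Ideal.span {r})
    (hr : ∀ x, r * x = 0 → x = 0) {rs : List P} (h : IsWeaklyRegular T (rs.map σ)) :
    IsWeaklyRegular P (r :: rs) := by
  letI := σ.toAlgebra
  refine (isWeaklyRegular_cons_iff P r rs).2
    ⟨IsSMulRegular.of_right_eq_zero_of_smul fun x hx => hr x hx, ?_⟩
  have he : (r • ⊤ : Submodule P P) = LinearMap.ker (Algebra.linearMap P T) := by
    ext x
    rw [Submodule.mem_smul_pointwise_iff_exists, LinearMap.mem_ker, Algebra.linearMap_apply,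
      RingHom.algebraMap_toAlgebra, ← RingHom.mem_ker, hk, Ideal.mem_span_singleton]
    constructor
    · rintro ⟨y, -, rfl⟩; exact ⟨y, rfl⟩
    · rintro ⟨y, rfl⟩; exact ⟨y, trivial, rfl⟩
  let e : QuotSMulTop r P ≃ₗ[P] T := (Submodule.quotEquivOfEq _ _ he).trans
    ((Algebra.linearMap P T).quotKerEquivOfSurjective hσ)
  exact (e.isWeaklyRegular_congr rs).2 ((isWeaklyRegular_map_algebraMap_iff T T rs).1 h)

theorem exists_away_ker {R : CommRingCat.{u}} (I : Ideal R)
    (h : RegImm.IsRegularImmersion RegImm.Kind.regular (Spec.map (CommRingCat.ofHom (Ideal.Quotient.mk I))))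
    (q : PrimeSpectrum (R ⧸ I)) :
    ∃ G : R, Ideal.Quotient.mk I G ∉ q.asIdeal ∧ ∃ rs : List (Localization.Away G),
      IsWeaklyRegular (Localization.Away G) rs ∧
        I.map (algebraMap R (Localization.Away G)) = Ideal.ofList rs := by
  let a := CommRingCat.ofHom (Ideal.Quotient.mk I)
  obtain ⟨⟨U, hU⟩, hz, hci, rs, hrs, hker⟩ := h.2 q
  obtain ⟨s, hsle, hxs⟩ := (isAffineOpen_top (Spec R)).exists_basicOpen_le (V := U) ⟨_, hz⟩
    (show Spec.map a q ∈ (⊤ : (Spec R).Opens) from trivial)
  haveI := hci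
  haveI : IsClosedImmersion (Spec.map a) := IsClosedImmersion.spec_of_surjective a Ideal.Quotient.mk_surjective
  haveI : IsClosedImmersion (Spec.map a ∣_ ⊤) := inferInstance
  let e₁ : R ≃+* Γ(Spec R, ⊤) := (Scheme.ΓSpecIso R).symm.commRingCatIsoToRingEquiv
  let D := (Spec R).basicOpen s
  have hD : IsAffineOpen D := (isAffineOpen_top _).basicOpen s
  let G : R := e₁.symm s
  have hs : e₁ G = s := e₁.apply_symm_apply s
  refine ⟨G, ?_, ?_⟩
  · have h1 : Spec.map a q ∈ (Spec R).basicOpen s := hxs
    rw [← hs, show e₁ G = (Scheme.ΓSpecIso R).inv.hom G from rfl, basicOpen_eq_of_affine] at h1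
    exact h1
  have hk : RingHom.ker ((Spec.map a).app ⊤).hom = I.map e₁.toRingHom := by
    have hnat : (Scheme.ΓSpecIso R).inv ≫ (Spec.map a).appTop = a ≫ (Scheme.ΓSpecIso (.of (R ⧸ I))).inv :=
      (Scheme.ΓSpecIso_inv_naturality a).symm
    refine le_antisymm (fun x hx => ?_) (Ideal.map_le_iff_le_comap.2 fun x hx => ?_)
    · obtain ⟨r, rfl⟩ := e₁.surjective x
      refine Ideal.mem_map_of_mem _ ?_
      have h1 := ConcreteCategory.congr_hom hnat r
      change ((Spec.map a).app ⊤).hom (e₁ r) = (Scheme.ΓSpecIso (.of (R ⧸ I))).inv.hom (Ideal.Quotient.mk I r) at h1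
      rw [← Ideal.Quotient.eq_zero_iff_mem]
      apply (ConcreteCategory.bijective_of_isIso (Scheme.ΓSpecIso (.of (R ⧸ I))).inv).1
      exact h1.symm.trans ((RingHom.mem_ker.1 hx).trans (map_zero (Scheme.ΓSpecIso (.of (R ⧸ I))).inv.hom).symm)
    · rw [Ideal.mem_comap, RingHom.mem_ker]
      have h1 := ConcreteCategory.congr_hom hnat x
      change ((Spec.map a).app ⊤).hom (e₁ x) = (Scheme.ΓSpecIso (.of (R ⧸ I))).inv.hom (Ideal.Quotient.mk I x) at h1
      refine h1.trans ?_
      rw [Ideal.Quotient.eq_zero_iff_mem.2 hx]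
      exact map_zero (Scheme.ΓSpecIso (.of (R ⧸ I))).inv.hom
  have hkD := ker_app_restrict (Spec.map a) (isAffineOpen_top _) hD le_top
  have hkU := ker_app_restrict (Spec.map a) hU hD hsle
  let ρ := ((Spec R).presheaf.map (homOfLE hsle).op).hom
  have hreg : IsWeaklyRegular Γ(Spec R, D) (rs.map ρ) := by
    have hρ : ρ.Flat := by
      have := (𝟙 (Spec R) : Spec R ⟶ Spec R).flat_appLE hU hD (show D ≤ (𝟙 (Spec R) : Spec R ⟶ Spec R) ⁻¹ᵁ U from hsle)
      rwa [show (𝟙 (Spec R) : Spec R ⟶ Spec R).appLE U D hsle = (Spec R).presheaf.map (homOfLE hsle).op from by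
        simp [Scheme.Hom.appLE]; exact Category.id_comp _] at this
    letI := ρ.toAlgebra
    haveI : Module.Flat Γ(Spec R, U) Γ(Spec R, D) := hρ
    exact (show IsRegular Γ(Spec R, U) rs from hrs).toIsWeaklyRegular.of_flat
  haveI := (isAffineOpen_top (Spec R)).isLocalization_basicOpen s
  let φ : R →+* Γ(Spec R, D) := (algebraMap Γ(Spec R, ⊤) Γ(Spec R, D)).comp e₁.toRingHom
  letI : Algebra R Γ(Spec R, D) := φ.toAlgebra
  haveI : IsLocalization.Away G Γ(Spec R, D) := by
    have hM : (Submonoid.powers s).map e₁.symm = Submonoid.powers G := by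
      rw [Submonoid.map_powers]
    have h1 := IsLocalization.isLocalization_of_base_ringEquiv (Submonoid.powers s) Γ(Spec R, D) e₁.symm
    rw [hM] at h1
    exact h1
  let ε : Γ(Spec R, D) ≃ₐ[R] Localization.Away G := IsLocalization.algEquiv (Submonoid.powers G) _ _
  refine ⟨(rs.map ρ).map ε.toRingEquiv.toRingHom, ?_, ?_⟩
  · letI := ε.toRingEquiv.toRingHom.toAlgebra
    haveI : Module.Flat Γ(Spec R, D) (Localization.Away G) := RingHom.Flat.of_bijective ε.bijective
    exact hreg.of_flat
  · rw [← Ideal.map_ofList, ← Ideal.map_ofList]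
    change _ = Ideal.map ε.toRingEquiv.toRingHom (Ideal.map ρ _)
    erw [← hker]
    erw [← hkU]
    rw [hkD, hk, Ideal.map_map, Ideal.map_map]
    congr 1
    refine RingHom.ext fun r => ?_
    exact (ε.commutes r).symm

open MvPolynomial in
theorem exists_presentation_regular {A : Type u} [CommRing A] {n : ℕ} (I : Ideal (MvPolynomial (Fin n) A))
    (G : MvPolynomial (Fin n) A) (rs : List (Localization.Away G))
    (hreg : IsWeaklyRegular (Localization.Away G) rs)
    (hI : I.map (algebraMap (MvPolynomial (Fin n) A) (Localization.Away G)) = Ideal.ofList rs)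
    (q : PrimeSpectrum (MvPolynomial (Fin n) A ⧸ I)) (hGq : Ideal.Quotient.mk I G ∉ q.asIdeal) :
    ∃ (d : ℕ) (P : Fin d → MvPolynomial (Fin (n + 1)) A),
      IsRegular (MvPolynomial (Fin (n + 1)) A) (List.ofFn P) ∧
      Nonempty (Localization.Away (Ideal.Quotient.mk I G) ≃ₐ[A]
        (MvPolynomial (Fin (n + 1)) A ⧸ Ideal.ofList (List.ofFn P))) := by
  let T := Localization.Away G
  let Sg := Localization.Away (Ideal.Quotient.mk I G)
  let σ : Polynomial (MvPolynomial (Fin n) A) →ₐ[MvPolynomial (Fin n) A] T :=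
    (Localization.awayEquivAdjoin G).symm.toAlgHom.comp (AdjoinRoot.mkₐ _)
  have hσ : Function.Surjective σ := (Localization.awayEquivAdjoin G).symm.surjective.comp AdjoinRoot.mk_surjective
  let r := Polynomial.C G * Polynomial.X - 1
  have hσk : RingHom.ker σ.toRingHom = Ideal.span {r} := by
    ext x
    rw [RingHom.mem_ker, Ideal.mem_span_singleton, ← AdjoinRoot.mk_eq_zero]
    exact (Localization.awayEquivAdjoin G).symm.map_eq_zero_iff
  have hr : ∀ x, r * x = 0 → x = 0 := fun x hx => by
    refine Polynomial.ext fun k => ?_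
    induction k with
    | zero =>
      have := congrArg (fun p => Polynomial.coeff p 0) hx
      simpa [r, sub_mul, mul_assoc] using this
    | succ k ih =>
      have := congrArg (fun p => Polynomial.coeff p (k + 1)) hx
      simpa [r, sub_mul, mul_assoc, ih, Polynomial.coeff_zero] using this
  obtain ⟨L, hL⟩ := List.map_surjective_iff.2 hσ rs
  have hw : IsWeaklyRegular (Polynomial (MvPolynomial (Fin n) A)) (r :: L) :=
    isWeaklyRegular_cons_of_surjective σ.toRingHom hσ hσk hr (by
      rw [show List.map σ.toRingHom L = rs from hL]; exact hreg)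
  let e := finSuccEquiv A n
  let L' : List (MvPolynomial (Fin (n + 1)) A) := (r :: L).map e.symm.toRingEquiv.toRingHom
  have hw' : IsWeaklyRegular (MvPolynomial (Fin (n + 1)) A) L' := by
    letI := e.symm.toRingEquiv.toRingHom.toAlgebra
    haveI : Module.Flat (Polynomial (MvPolynomial (Fin n) A)) (MvPolynomial (Fin (n + 1)) A) :=
      RingHom.Flat.of_bijective e.symm.bijective
    exact hw.of_flat
  let γ₀ : T →+* Sg := Localization.awayMap (Ideal.Quotient.mk I) G
  haveI : IsLocalization ((Submonoid.powers G).map (Ideal.Quotient.mk I)) Sg := by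
    rw [Submonoid.map_powers]; exact inferInstanceAs (IsLocalization (Submonoid.powers _) Sg)
  have hγk : RingHom.ker γ₀ = Ideal.ofList rs := by
    rw [← hI]
    exact (IsLocalization.ker_map (Q := Sg) (S := T) (g := Ideal.Quotient.mk I) rfl).trans
      (by rw [Ideal.mk_ker])
  have hγs : Function.Surjective γ₀ := IsLocalization.map_surjective_of_surjective (M := Submonoid.powers G) (S := T) (Q := Sg)
    (g := Ideal.Quotient.mk I) Ideal.Quotient.mk_surjective
  let Φ : MvPolynomial (Fin (n + 1)) A →ₐ[A] Sg :=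
    { (γ₀.comp σ.toRingHom).comp e.toRingEquiv.toRingHom with
      commutes' := fun c => by
        change γ₀ (σ (e (algebraMap A _ c))) = _
        rw [AlgEquiv.commutes, IsScalarTower.algebraMap_apply A (MvPolynomial (Fin n) A) (Polynomial _),
          AlgHom.commutes]
        simp [γ₀, Localization.awayMap, IsLocalization.Away.map, IsLocalization.map_eq, T, Sg]
        rfl }
  have hΦs : Function.Surjective Φ := hγs.comp (hσ.comp e.surjective)
  have hΦk : RingHom.ker Φ.toRingHom = Ideal.ofList L' := by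
    change RingHom.ker ((γ₀.comp σ.toRingHom).comp e.toRingEquiv.toRingHom) = _
    rw [← RingHom.comap_ker, ← RingHom.comap_ker, hγk, ← hL]
    rw [show List.map σ L = List.map σ.toRingHom L from rfl, ← Ideal.map_ofList σ.toRingHom,
      Ideal.comap_map_of_surjective σ.toRingHom hσ, ← RingHom.ker_eq_comap_bot, hσk, sup_comm,
      ← Ideal.ofList_cons, ← Ideal.map_ofList]
    exact (Ideal.map_symm (f := e.toRingEquiv) (I := Ideal.ofList (r :: L))).symm
  haveI : Nontrivial Sg := by
    refine ⟨0, 1, fun h0 => hGq ?_⟩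
    obtain ⟨⟨_, k, rfl⟩, hk⟩ := (IsLocalization.map_eq_zero_iff (Submonoid.powers (Ideal.Quotient.mk I G)) Sg 1).1
      (by rw [map_one]; exact h0.symm)
    exact q.isPrime.mem_of_pow_mem k (by rw [mul_one] at hk; rw [show Ideal.Quotient.mk I G ^ k = 0 from hk]; exact zero_mem _)
  refine ⟨L'.length, fun i => L'.get i, ?_, ?_⟩
  · rw [List.ofFn_get]
    refine ⟨hw', fun htop => ?_⟩
    rw [smul_eq_mul, Ideal.mul_top, ← hΦk] at htop
    exact RingHom.ker_ne_top Φ.toRingHom htop.symm
  · rw [List.ofFn_get, ← hΦk]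
    exact ⟨(Ideal.quotientKerAlgEquivOfSurjective hΦs).symm⟩

end Groth.Agent.RegImm44
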